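import Groth.Agent.DiagExt19.Curve
import Groth.Agent.Comod.Image2
import Groth.Agent.HopfPts.Extend
import Groth.Agent.GrpScheme.Smooth
import Mathlib.AlgebraicGeometry.Group.Affine

/-!
# Rational centralising points of a smooth unipotent kernel
-/

set_option autoImplicit false
set_option linter.style.haveILetI false
set_option synthInstance.maxHeartbeats 400000

universe u

noncomputable section

open TensorProduct WithConv Polynomial
open scoped Groth.Agent.DynLib

namespace Groth.Agent.DiagExt19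

open Groth.Agent.Comod Groth.Agent.DynLib AlgebraicGeometry CategoryTheory

theorem formallySmooth_of_isReduced {k : Type u} [Field k] [PerfectField k] (A : Type u) [CommRing A]
    [HopfAlgebra k A] [Algebra.FiniteType k A] [_root_.IsReduced A] : Algebra.FormallySmooth k A := by
  let G := (Spec (CommRingCat.of A)).asOver (Spec (CommRingCat.of k))
  haveI : LocallyOfFiniteType G.hom := locallyOfFiniteType_specOverSpec
  haveI : _root_.IsReduced (CommRingCat.of A) := ‹_›
  haveI : AlgebraicGeometry.IsReduced G.left := inferInstanceAs (AlgebraicGeometry.IsReduced (Spec (CommRingCat.of A)))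
  have hs : AlgebraicGeometry.Smooth G.hom := Groth.Agent.GrpScheme.Smooth.smooth_of_perfectField G
  have hs' : RingHom.Smooth (algebraMap k A) := (HasRingHomProperty.Spec_iff (P := @AlgebraicGeometry.Smooth)).1 hs
  exact (RingHom.smooth_algebraMap.1 hs').formallySmooth

variable {k : Type u} [Field k] {A : Type u} [CommRing A] [HopfAlgebra k A]
  {B : Type u} [CommRing B] [HopfAlgebra k B]

/-- the binomial formula collapses when the inner binomial coefficients vanish -/
theorem add_pow_of_choose {T : Type u} [CommRing T] [Algebra k T] {i : ℕ} (hi : 0 < i)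
    (hc : ∀ a, 0 < a → a < i → (i.choose a : k) = 0) (x y : T) : (x + y) ^ i = x ^ i + y ^ i := by
  rw [add_pow, Finset.sum_range_succ, Finset.range_eq_Ico, Finset.sum_eq_sum_Ico_succ_bot hi,
    Finset.sum_eq_zero fun m hm => by
      have := Finset.mem_Ico.1 hm
      rw [← map_natCast (algebraMap k T), hc m (by omega) (by omega), map_zero, mul_zero]]
  simp [add_comm]

variable {Q : Type u} [CommRing Q] [Algebra k Q] {e : B[X] →ₐ[k] Q} {h : B}

theorem Rel.aeval_add (R : Rel e h) {T : Type u} [CommRing T] [Algebra k T] (x y : T) :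
    Polynomial.aeval (x + y) R.P₀ = Polynomial.aeval x R.P₀ + Polynomial.aeval y R.P₀ := by
  simp only [Polynomial.aeval_eq_sum_range, ← Finset.sum_add_distrib]
  refine Finset.sum_congr rfl fun i _ => ?_
  rcases Nat.eq_zero_or_pos i with rfl | hi
  · simp [R.coeff_zero]
  by_cases hp : R.P₀.coeff i = 0
  · simp [hp]
  rw [← smul_add, add_pow_of_choose hi (R.coeff_ne i hi hp).2]

theorem Rel.map_P (R : Rel e h) (hn : h ^ R.n = 1) : R.P₀.map (algebraMap k B) = R.P := by
  refine Polynomial.ext fun i => ?_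
  rw [Polynomial.coeff_map]
  rcases Nat.eq_zero_or_pos i with rfl | hi
  · rw [R.coeff_zero, map_zero, R.coeff_const, hn, sub_self, smul_zero]
  · rw [R.coeff_pos i hi, Algebra.algebraMap_eq_smul_one]

theorem exists_add_eq_of_cofinite [IsAlgClosed k] {g : k[X]} (hg : g ≠ 0) (e : k) :
    ∃ e₁, g.eval e₁ ≠ 0 ∧ g.eval (e - e₁) ≠ 0 := by
  classical
  let S : Finset k := g.roots.toFinset ∪ g.roots.toFinset.image (fun r => e - r)
  obtain ⟨e₁, he⟩ := Infinite.exists_notMem_finset S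
  refine ⟨e₁, fun h0 => he (Finset.mem_union_left _ ?_), fun h0 => he (Finset.mem_union_right _ ?_)⟩
  · exact Multiset.mem_toFinset.2 ((mem_roots hg).2 h0)
  · exact Finset.mem_image.2 ⟨e - e₁, Multiset.mem_toFinset.2 ((mem_roots hg).2 h0), sub_sub_cancel e e₁⟩

variable (ψ : B →ₐc[k] A) {D : Subalgebra k A}

/-- membership of a product of points at an element primitive modulo `D` -/
theorem mul_apply_mem {C : Type u} [CommRing C] [Algebra k C] (S : Subalgebra k C) {x H : A}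
    (hx : Coalgebra.comul (R := k) x - x ⊗ₜ[k] (1 : A) - H ⊗ₜ[k] x ∈ (HopfSub.ι₂ D).range)
    {U V : Pt k A C} (hU : ∀ a ∈ D, U.ofConv a ∈ S) (hV : ∀ a ∈ D, V.ofConv a ∈ S) :
    (U * V).ofConv x - U.ofConv x - U.ofConv H * V.ofConv x ∈ S := by
  obtain ⟨t, ht⟩ := hx
  change HopfSub.ι₂ D t = _ at ht
  show (U * V) x - _ - _ ∈ S
  rw [AlgHom.convMul_apply,
    show Coalgebra.comul (R := k) x = HopfSub.ι₂ D t + x ⊗ₜ[k] (1 : A) + H ⊗ₜ[k] x by rw [ht]; abel]
  have hmem : Algebra.TensorProduct.lift U.ofConv V.ofConv (fun _ _ => Commute.all _ _) (HopfSub.ι₂ D t) ∈ S := by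
    clear ht
    induction t using TensorProduct.induction_on with
    | zero => simp
    | tmul p q =>
      simp only [HopfSub.ι₂, Algebra.TensorProduct.map_tmul, Algebra.TensorProduct.lift_tmul]
      exact S.mul_mem (hU p p.2) (hV q q.2)
    | add p q hp hq => simp only [map_add]; exact add_mem hp hq
  simp only [map_add, Algebra.TensorProduct.lift_tmul, map_one, mul_one]
  convert hmem using 1
  ring

variable (r : A →ₐc[k] B) {x : A}

/-- the relation evaluated at the normalised element lies in `D` -/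
theorem aeval_mem_of_rel (hr : r.comp ψ = BialgHom.id k B) (hD : SGA3.IsHopfSubalgebra k A D)
    (hh : IsGroupLikeElem k h) {r₀ : ↥D →ₐ[k] B} (hr₀ : ∀ a : ↥D, r₀ a = r a) (L : Layer ψ r₀ x h) (hψh : ψ h ∈ D)
    (hx' : Coalgebra.comul (R := k) L.x' - L.x' ⊗ₜ[k] (1 : A) - ψ h ⊗ₜ[k] L.x' ∈ (HopfSub.ι₂ D).range)
    (R : Rel (aevalTower ((Ideal.Quotient.mkₐ k L.I).comp (ψ : B →ₐ[k] A)) (Ideal.Quotient.mk L.I L.x')) h)
    (hn : h ^ R.n = 1) : Polynomial.aeval L.x' R.P₀ ∈ D := by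
  classical
  set z := Polynomial.aeval L.x' R.P₀
  have hz : Coalgebra.comul (R := k) z - z ⊗ₜ[k] (1 : A) - ψ (1 : B) ⊗ₜ[k] z ∈ (HopfSub.ι₂ D).range := by
    obtain ⟨t, ht⟩ := hx'
    change HopfSub.ι₂ D t = _ at ht
    rw [map_one ψ, show Coalgebra.comul (R := k) z = Polynomial.aeval (Coalgebra.comul (R := k) L.x') R.P₀ from
        (Polynomial.aeval_algHom_apply (Bialgebra.comulAlgHom k A) L.x' R.P₀).symm,
      show Coalgebra.comul (R := k) L.x' =
        HopfSub.ι₂ D t + (L.x' ⊗ₜ[k] (1 : A) + ψ h ⊗ₜ[k] L.x') by rw [ht]; abel,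
      R.aeval_add, R.aeval_add,
      show Polynomial.aeval (L.x' ⊗ₜ[k] (1 : A)) R.P₀ = z ⊗ₜ[k] (1 : A) from
        Polynomial.aeval_algHom_apply (Algebra.TensorProduct.includeLeft : A →ₐ[k] A ⊗[k] A) L.x' R.P₀,
      show Polynomial.aeval (ψ h ⊗ₜ[k] L.x') R.P₀ = (1 : A) ⊗ₜ[k] z from ?_]
    · rw [add_sub_assoc, add_sub_assoc, Polynomial.aeval_algHom_apply]
      simp
    · simp only [z, Polynomial.aeval_eq_sum_range, TensorProduct.tmul_sum, TensorProduct.tmul_smul]
      refine Finset.sum_congr rfl fun i _ => ?_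
      rcases Nat.eq_zero_or_pos i with rfl | hi
      · simp [R.coeff_zero]
      by_cases hp : R.P₀.coeff i = 0
      · simp [hp]
      rw [Algebra.TensorProduct.tmul_pow, ← map_pow, (R.coeff_ne i hi hp).1, hn, map_one]
  let D2 := D ⊔ Algebra.adjoin k {z}
  have hle : D ≤ D2 := le_sup_left
  have hz2 : z ∈ D2 := (le_sup_right : _ ≤ D2) (Algebra.subset_adjoin rfl)
  have hD2 : SGA3.IsHopfSubalgebra k A D2 := isHopfSubalgebra_sup hD (by rw [map_one ψ]; exact one_mem D) hz
  letI := HopfSub.hopfAlgebra hD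
  letI := HopfSub.hopfAlgebra hD2
  let i2 : ↥D →ₐc[k] ↥D2 := BialgHom.ofAlgHom (Subalgebra.inclusion hle) (AlgHom.ext fun _ => rfl)
    (AlgHom.ext fun a => by
      apply HopfSub.ι₂_injective D2
      show HopfSub.ι₂ D2 (Algebra.TensorProduct.map _ _ (Coalgebra.comul (R := k) a)) =
        HopfSub.ι₂ D2 (Coalgebra.comul (R := k) (Subalgebra.inclusion hle a))
      refine Eq.trans ?_ (HopfSub.ι₂_comulAux hD2 (Subalgebra.inclusion hle a)).symm
      refine Eq.trans ?_ (HopfSub.ι₂_comulAux hD a)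
      show _ = HopfSub.ι₂ D (Coalgebra.comul (R := k) a)
      induction Coalgebra.comul (R := k) a using TensorProduct.induction_on with
      | zero => simp
      | tmul p q => rfl
      | add p q hp hq => simp only [map_add, hp, hq])
  letI : Algebra ↥D ↥D2 := (Subalgebra.inclusion hle).toRingHom.toAlgebra
  haveI : IsScalarTower k ↥D ↥D2 := IsScalarTower.of_algebraMap_eq fun c => rfl
  haveI : Module.FaithfullyFlat ↥D ↥D2 :=
    HopfSub.faithfullyFlat i2 (fun _ => rfl) (Subalgebra.inclusion_injective hle)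
  haveI : Module.FaithfullyFlat ↥D2 A :=
    HopfSub.faithfullyFlat (HopfSub.incl hD2) (fun _ => rfl) Subtype.val_injective
  haveI := KerHopf.isHopfIdeal i2
  let π : ↥D2 →ₐc[k] ↥D2 ⧸ KerHopf.kerIdeal i2 := Bialgebra.Quotient.mkBialgHom _
  -- the quotient is trivial
  have hzero : π ⟨z, hz2⟩ = 0 := by
    have h1 : z ∈ (RingHom.ker r₀).map D.val := by
      rw [← L.I_eq]
      refine Ideal.Quotient.eq_zero_iff_mem.1 ?_
      rw [show Ideal.Quotient.mk L.I z = Polynomial.aeval (Ideal.Quotient.mk L.I L.x') R.P₀ from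
        (Polynomial.aeval_algHom_apply (Ideal.Quotient.mkₐ k L.I) L.x' R.P₀).symm, ← R.map_eq, ← R.map_P hn]
      refine (DFunLike.congr_fun (Polynomial.algHom_ext
        (f := (aevalTower ((Ideal.Quotient.mkₐ k L.I).comp (ψ : B →ₐ[k] A)) (Ideal.Quotient.mk L.I L.x')).comp
          (Polynomial.mapAlgHom (Algebra.ofId k B)))
        (g := Polynomial.aeval (Ideal.Quotient.mk L.I L.x')) (by simp)) R.P₀).symm
    have h2 : (⟨z, hz2⟩ : ↥D2) ∈ (RingHom.ker r₀).map (Subalgebra.inclusion hle) := by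
      rw [← Ideal.comap_map_eq_self_of_faithfullyFlat (B := A) ((RingHom.ker r₀).map (Subalgebra.inclusion hle)),
        Ideal.mem_comap]
      rw [show Ideal.map (algebraMap ↥D2 A) ((RingHom.ker r₀).map (Subalgebra.inclusion hle)) =
        (RingHom.ker r₀).map D.val from Ideal.map_mapₐ (Subalgebra.inclusion hle) D2.val]
      exact h1
    refine Ideal.Quotient.eq_zero_iff_mem.2 (Ideal.map_le_iff_le_comap.2 (fun a ha => ?_) h2)
    refine Ideal.mem_map_of_mem (i2 : ↥D →+* ↥D2) ?_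
    rw [RingHom.mem_ker, Bialgebra.counitAlgHom_apply]
    show Coalgebra.counit (R := k) (a : A) = 0
    rw [← CoalgHomClass.counit_comp_apply r, ← hr₀, show r₀ a = 0 from ha, map_zero]
  have hπ : ∀ y : ↥D2, π y ∈ (⊥ : Subalgebra k (↥D2 ⧸ KerHopf.kerIdeal i2)) := by
    rintro ⟨y, hy⟩
    have hle2 : D2 ≤ ((⊥ : Subalgebra k _).comap (π : ↥D2 →ₐ[k] ↥D2 ⧸ KerHopf.kerIdeal i2)).map D2.val := by
      refine sup_le (fun a ha => ⟨⟨a, hle ha⟩, ?_, rfl⟩) (Algebra.adjoin_le ?_)
      · show π (i2 ⟨a, ha⟩) ∈ (⊥ : Subalgebra k (↥D2 ⧸ KerHopf.kerIdeal i2))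
        rw [show π (i2 ⟨a, ha⟩) = _ from KerHopf.mk_comp i2 ⟨a, ha⟩]
        exact Subalgebra.algebraMap_mem _ _
      · rintro a rfl
        refine ⟨⟨z, hz2⟩, ?_, rfl⟩
        show π ⟨z, hz2⟩ ∈ (⊥ : Subalgebra k (↥D2 ⧸ KerHopf.kerIdeal i2))
        rw [hzero]
        exact zero_mem _
    obtain ⟨y', hy', hyy⟩ := hle2 hy
    rwa [show (⟨y, hy⟩ : ↥D2) = y' from Subtype.ext hyy.symm]
  have hker : RingHom.ker (π : ↥D2 →ₐ[k] ↥D2 ⧸ KerHopf.kerIdeal i2) =
      Ideal.map (i2 : ↥D →ₐ[k] ↥D2) (RingHom.ker (Bialgebra.counitAlgHom k ↥D)) := by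
    ext y
    exact Ideal.Quotient.eq_zero_iff_mem
  have hinv : ExactSeq.rho π (⟨z, hz2⟩ : ↥D2) = (⟨z, hz2⟩ : ↥D2) ⊗ₜ[k] 1 := by
    rw [ExactSeq.rho, AlgHom.comp_apply, Bialgebra.comulAlgHom_apply]
    have h3 : ∀ s : ↥D2 ⊗[k] ↥D2, Algebra.TensorProduct.map (AlgHom.id k ↥D2) (π : ↥D2 →ₐ[k] ↥D2 ⧸ KerHopf.kerIdeal i2) s =
        TensorProduct.rid k ↥D2 ((Coalgebra.counit (R := k) (A := ↥D2)).lTensor ↥D2 s) ⊗ₜ[k] 1 := fun s => by
      induction s using TensorProduct.induction_on with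
      | zero => simp
      | tmul p q =>
        obtain ⟨c, hc⟩ := Algebra.mem_bot.1 (hπ q)
        have hcq : Coalgebra.counit (R := k) q = c := by
          rw [← CoalgHomClass.counit_comp_apply π q, ← hc]
          simp
        rw [Algebra.TensorProduct.map_tmul, AlgHom.id_apply, show (π : ↥D2 →ₐ[k] ↥D2 ⧸ KerHopf.kerIdeal i2) q = algebraMap k _ c from hc.symm,
          LinearMap.lTensor_tmul, TensorProduct.rid_tmul, hcq, Algebra.algebraMap_eq_smul_one, TensorProduct.smul_tmul]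
      | add p q hp hq => simp only [map_add, TensorProduct.add_tmul, hp, hq]
    rw [h3, Coalgebra.lTensor_counit_comul, TensorProduct.rid_tmul, one_smul]
  obtain ⟨q, hq⟩ := ExactSeq.mem_range_of_rho i2 (fun _ => rfl) π hker Ideal.Quotient.mk_surjective _ hinv
  rw [show z = (q : A) from congrArg Subtype.val hq.symm]
  exact q.2

/-- the conjugation coaction commutes with bialgebra maps -/
theorem map_G_comp {A' : Type u} [CommRing A'] [HopfAlgebra k A'] (ι : A' →ₐc[k] A) (a : A') :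
    Algebra.TensorProduct.map (ι : A' →ₐ[k] A) (AlgHom.id k B) (G (r.comp ι) a) = G r (ι a) := by
  have h2 : mapPt (Algebra.TensorProduct.map (ι : A' →ₐ[k] A) (AlgHom.id k B)) (toConv (G (r.comp ι)) : Pt k A' _) =
      pull ι (toConv (G r) : Pt k A _) := by
    have e1 : mapPt (Algebra.TensorProduct.map (ι : A' →ₐ[k] A) (AlgHom.id k B)) (rPt (r.comp ι) A') = pull ι (rPt r A) :=
      WithConv.ext (AlgHom.ext fun c => by
        show Algebra.TensorProduct.map (ι : A' →ₐ[k] A) (AlgHom.id k B) ((1 : A') ⊗ₜ[k] r (ι c)) = (1 : A) ⊗ₜ[k] r (ι c)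
        simp)
    have e2 : mapPt (Algebra.TensorProduct.map (ι : A' →ₐ[k] A) (AlgHom.id k B))
          (mapPt Algebra.TensorProduct.includeLeft (toConv (AlgHom.id k A'))) =
        pull ι (mapPt Algebra.TensorProduct.includeLeft (toConv (AlgHom.id k A))) :=
      WithConv.ext (AlgHom.ext fun c => by
        show Algebra.TensorProduct.map (ι : A' →ₐ[k] A) (AlgHom.id k B) (c ⊗ₜ[k] (1 : B)) = ι c ⊗ₜ[k] (1 : B)
        simp)
    simp only [G, WithConv.toConv_ofConv, map_mul, map_inv, e1, e2]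
  exact DFunLike.congr_fun (congrArg WithConv.ofConv h2) a

/-- conjugation fixes the twisted leading term modulo `D` -/
theorem exists_G_eq (hr : r.comp ψ = BialgHom.id k B) (hD : SGA3.IsHopfSubalgebra k A D) (hh : IsGroupLikeElem k h)
    (hψh : ψ h ∈ D) {z : A}
    (hx' : Coalgebra.comul (R := k) z - z ⊗ₜ[k] (1 : A) - ψ h ⊗ₜ[k] z ∈ (HopfSub.ι₂ D).range) :
    ∃ w0 : ↥D ⊗[k] B, G r z = z ⊗ₜ[k] HopfAlgebra.antipode k h + Algebra.TensorProduct.map D.val (AlgHom.id k B) w0 := by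
  let incB : ↥D ⊗[k] B →ₐ[k] A ⊗[k] B := Algebra.TensorProduct.map D.val (AlgHom.id k B)
  let S := incB.range
  have hS1 : ∀ b : B, (1 : A) ⊗ₜ[k] b ∈ S := fun b => ⟨1 ⊗ₜ[k] b, by simp [incB]⟩
  have hSD : ∀ a ∈ D, a ⊗ₜ[k] (1 : B) ∈ S := fun a ha => ⟨⟨a, ha⟩ ⊗ₜ[k] 1, by simp [incB]⟩
  let U : Pt k A (A ⊗[k] B) := (rPt r A)⁻¹
  let V : Pt k A (A ⊗[k] B) := mapPt Algebra.TensorProduct.includeLeft (toConv (AlgHom.id k A))
  have hUS : ∀ a, U.ofConv a ∈ S := fun a => hS1 _
  have h2 := mul_apply_mem S hx' (U := U) (V := V) (fun a _ => hUS a) (fun a ha => hSD a ha)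
  have hUVD : ∀ a ∈ D, (U * V).ofConv a ∈ S := fun a ha => by
    obtain ⟨t, ht⟩ := comul_mem_range hD ha
    change HopfSub.ι₂ D t = _ at ht
    show (U * V) a ∈ S
    rw [AlgHom.convMul_apply, ← ht]
    clear ht
    induction t using TensorProduct.induction_on with
    | zero => simp
    | tmul p p' =>
      simp only [HopfSub.ι₂, Algebra.TensorProduct.map_tmul, Algebra.TensorProduct.lift_tmul]
      exact S.mul_mem (hUS _) (hSD _ p'.2)
    | add p p' hp hp' => simp only [map_add]; exact add_mem hp hp'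
  have h3 := mul_apply_mem S hx' (U := U * V) (V := rPt r A) hUVD (fun a _ => hS1 _)
  have hUH : U.ofConv (ψ h) = (1 : A) ⊗ₜ[k] HopfAlgebra.antipode k h := by
    show (1 : A) ⊗ₜ[k] r (HopfAlgebra.antipode k (ψ h)) = _
    rw [KerHopf.map_antipode, show r (ψ (HopfAlgebra.antipode k h)) = HopfAlgebra.antipode k h from DFunLike.congr_fun hr _]
  have h4 : (U * V).ofConv (ψ h) * (rPt r A).ofConv z ∈ S := S.mul_mem (hUVD _ hψh) (hS1 _)
  have h5 : G r z - z ⊗ₜ[k] HopfAlgebra.antipode k h ∈ S := by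
    have := add_mem (add_mem (add_mem h3 h2) h4) (hUS z)
    convert this using 1
    show (U * V * rPt r A).ofConv z - _ = _
    rw [hUH, show V.ofConv z = z ⊗ₜ[k] (1 : B) from rfl, Algebra.TensorProduct.tmul_mul_tmul, one_mul, mul_one]
    abel
  obtain ⟨w0, hw0⟩ := h5
  exact ⟨w0, by rw [show incB w0 = _ from hw0, add_sub_cancel]⟩

/-- slicing the value of a polynomial blind to nilpotents of order two gives a scalar -/
theorem exists_slice_aeval_eq {C : Type u} [CommRing C] [Algebra k C] {φ : B →ₗ[k] k} (h1 : φ 1 = 1) (e : C) (he : e * e = 0)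
    (hdec : ∀ c, ∃ (c₀ : k) (c' : C), c = algebraMap k C c₀ + e * c') (P : k[X])
    (hP : ∀ c z : C ⊗[k] B, z ^ 2 = 0 → Polynomial.aeval (c + z) P = Polynomial.aeval c P) (y : C ⊗[k] B) :
    ∃ b₀ : k, slice φ (Polynomial.aeval y P) = algebraMap k C b₀ := by
  have hy : ∀ y : C ⊗[k] B, ∃ (b : B) (y' : C ⊗[k] B), y = (1 : C) ⊗ₜ[k] b + (e ⊗ₜ[k] (1 : B)) * y' := fun y => by
    induction y using TensorProduct.induction_on with
    | zero => exact ⟨0, 0, by simp⟩
    | add p p' hp hp' =>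
      obtain ⟨b, y, rfl⟩ := hp
      obtain ⟨b', y', rfl⟩ := hp'
      exact ⟨b + b', y + y', by rw [TensorProduct.tmul_add, mul_add]; abel⟩
    | tmul c b =>
      obtain ⟨c₀, c', rfl⟩ := hdec c
      exact ⟨c₀ • b, c' ⊗ₜ[k] b, by
        rw [TensorProduct.add_tmul, Algebra.TensorProduct.tmul_mul_tmul, one_mul, TensorProduct.tmul_smul,
          TensorProduct.smul_tmul', Algebra.algebraMap_eq_smul_one]⟩
  obtain ⟨b, y', rfl⟩ := hy y
  refine ⟨φ (Polynomial.aeval b P), ?_⟩
  rw [hP _ _ (by rw [mul_pow, Algebra.TensorProduct.tmul_pow, pow_two e, he, TensorProduct.zero_tmul, zero_mul]),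
    show (1 : C) ⊗ₜ[k] b = (Algebra.TensorProduct.includeRight : B →ₐ[k] C ⊗[k] B) b from rfl,
    Polynomial.aeval_algHom_apply]
  show slice φ ((1 : C) ⊗ₜ[k] _) = _
  rw [slice_tmul, Algebra.algebraMap_eq_smul_one]

set_option maxHeartbeats 1600000 in
/-- Every value of the relation is taken by a rational centralising point. -/
theorem exists_center [IsAlgClosed k] [Algebra.FiniteType k A] (hB : HopfRep.IsDiagonalizable k B)
    [_root_.IsReduced (A ⧸ KerHopf.kerIdeal ψ)] (hr : r.comp ψ = BialgHom.id k B)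
    (hD : SGA3.IsHopfSubalgebra k A D) (hBD : (ψ : B →ₐ[k] A).range ≤ D) (hh : IsGroupLikeElem k h) (h1 : h ≠ 1)
    {r₀ : ↥D →ₐ[k] B} (hr₀ : ∀ a : ↥D, r₀ a = r a) (L : Layer ψ r₀ x h)
    (hx' : Coalgebra.comul (R := k) L.x' - L.x' ⊗ₜ[k] (1 : A) - ψ h ⊗ₜ[k] L.x' ∈ (HopfSub.ι₂ D).range)
    (R : Rel (aevalTower ((Ideal.Quotient.mkₐ k L.I).comp (ψ : B →ₐ[k] A)) (Ideal.Quotient.mk L.I L.x')) h)
    (hn : h ^ R.n = 1) (y : A) (hy : y ∈ D) :
    ∃ g : k[X], g ≠ 0 ∧ ∀ e, g.eval e ≠ 0 → ∃ u : Pt k A k, pull ψ u = 1 ∧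
      (∀ a ∈ D, (cj u (toConv (r : A →ₐ[k] B))).ofConv a = r a) ∧
      Polynomial.aeval (u.ofConv L.x' + u.ofConv y) R.P₀ = e := by
  classical
  have hψh : ψ h ∈ D := hBD ⟨h, rfl⟩
  have ha' := aeval_mem_of_rel ψ r hr hD hh hr₀ L hψh hx' R hn
  set a' := Polynomial.aeval L.x' R.P₀ with ha'def
  -- the lowest term
  have hex : ∃ i, R.P₀.coeff i ≠ 0 :=
    ⟨R.n, by rw [← R.natDegree₀, R.monic₀.coeff_natDegree]; exact one_ne_zero⟩
  set q := Nat.find hex
  have hq0 : R.P₀.coeff q ≠ 0 := Nat.find_spec hex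
  have hq2 : 2 ≤ q := by
    rcases Nat.lt_or_ge q 2 with h2 | h2
    · exfalso
      interval_cases q
      · exact hq0 R.coeff_zero
      · exact h1 (by rw [← pow_one h, (R.coeff_ne 1 one_pos hq0).1, hn])
    · exact h2
  have hlow : ∀ i, i < q → R.P₀.coeff i = 0 := fun i hi => not_not.1 (Nat.find_min hex hi)
  -- the Hopf algebra `D` and its kernel group
  letI := HopfSub.hopfAlgebra hD
  let ι : ↥D →ₐc[k] A := HopfSub.incl hD
  let rD : ↥D →ₐc[k] B := r.comp ι
  let ψD : B →ₐc[k] ↥D := BialgHom.ofAlgHom ((ψ : B →ₐ[k] A).codRestrict D fun b => hBD ⟨b, rfl⟩)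
    (AlgHom.ext fun b => CoalgHomClass.counit_comp_apply ψ b) (AlgHom.ext fun b => by
      apply HopfSub.ι₂_injective D
      refine Eq.trans ?_ (HopfSub.ι₂_comulAux hD _).symm
      show _ = Coalgebra.comul (R := k) (ψ b)
      rw [← CoalgHomClass.map_comp_comul_apply ψ b]
      show HopfSub.ι₂ D (Algebra.TensorProduct.map _ _ (Coalgebra.comul (R := k) b)) = _
      induction Coalgebra.comul (R := k) b using TensorProduct.induction_on with
      | zero => simp
      | tmul p q => rfl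
      | add p q hp hq => simp only [map_add, hp, hq])
  have hrψ : rD.comp ψD = BialgHom.id k B := BialgHom.ext fun b => DFunLike.congr_fun hr b
  haveI := KerHopf.isHopfIdeal ψD
  haveI : Algebra.FiniteType k ↥D := Image2.finiteType_of_injective ι Subtype.val_injective
  haveI : Module.FaithfullyFlat ↥D A := HopfSub.faithfullyFlat ι (fun _ => rfl) Subtype.val_injective
  haveI : Algebra.FiniteType k (↥D ⧸ KerHopf.kerIdeal ψD) :=
    Algebra.FiniteType.of_surjective (Ideal.Quotient.mkₐ k _) Ideal.Quotient.mk_surjective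
  have hmapK : (KerHopf.kerIdeal ψD).map (algebraMap ↥D A) = KerHopf.kerIdeal ψ := by
    rw [Ideal.map_map]; rfl
  haveI : _root_.IsReduced (↥D ⧸ KerHopf.kerIdeal ψD) := by
    refine isReduced_of_injective (Ideal.quotientMap (KerHopf.kerIdeal ψ) (algebraMap ↥D A)
      (Ideal.map_le_iff_le_comap.1 hmapK.le)) (Ideal.quotientMap_injective' ?_)
    rw [← hmapK, Ideal.comap_map_eq_self_of_faithfullyFlat]
  haveI : Algebra.FormallySmooth k (↥D ⧸ KerHopf.kerIdeal ψD) := formallySmooth_of_isReduced _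
  -- the big subalgebra and its kernel group
  let D' := D ⊔ Algebra.adjoin k {L.x'}
  have hle : D ≤ D' := le_sup_left
  have hx'D : L.x' ∈ D' := (le_sup_right : _ ≤ D') (Algebra.subset_adjoin rfl)
  have hD' : SGA3.IsHopfSubalgebra k A D' := isHopfSubalgebra_sup hD hψh hx'
  letI := HopfSub.hopfAlgebra hD'
  let ι' : ↥D' →ₐc[k] A := HopfSub.incl hD'
  let ψ' : B →ₐc[k] ↥D' := BialgHom.ofAlgHom ((ψ : B →ₐ[k] A).codRestrict D' fun b => hle (hBD ⟨b, rfl⟩))
    (AlgHom.ext fun b => CoalgHomClass.counit_comp_apply ψ b) (AlgHom.ext fun b => by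
      apply HopfSub.ι₂_injective D'
      refine Eq.trans ?_ (HopfSub.ι₂_comulAux hD' _).symm
      show _ = Coalgebra.comul (R := k) (ψ b)
      rw [← CoalgHomClass.map_comp_comul_apply ψ b]
      show HopfSub.ι₂ D' (Algebra.TensorProduct.map _ _ (Coalgebra.comul (R := k) b)) = _
      induction Coalgebra.comul (R := k) b using TensorProduct.induction_on with
      | zero => simp
      | tmul p q => rfl
      | add p q hp hq => simp only [map_add, hp, hq])
  haveI := KerHopf.isHopfIdeal ψ'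
  haveI : Algebra.FiniteType k ↥D' := Image2.finiteType_of_injective ι' Subtype.val_injective
  haveI : Module.FaithfullyFlat ↥D' A := HopfSub.faithfullyFlat ι' (fun _ => rfl) Subtype.val_injective
  haveI : Algebra.FiniteType k (↥D' ⧸ KerHopf.kerIdeal ψ') :=
    Algebra.FiniteType.of_surjective (Ideal.Quotient.mkₐ k _) Ideal.Quotient.mk_surjective
  have hmapK' : (KerHopf.kerIdeal ψ').map (algebraMap ↥D' A) = KerHopf.kerIdeal ψ := by
    rw [Ideal.map_map]; rfl
  haveI : _root_.IsReduced (↥D' ⧸ KerHopf.kerIdeal ψ') := by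
    refine isReduced_of_injective (Ideal.quotientMap (KerHopf.kerIdeal ψ) (algebraMap ↥D' A)
      (Ideal.map_le_iff_le_comap.1 hmapK'.le)) (Ideal.quotientMap_injective' ?_)
    rw [← hmapK', Ideal.comap_map_eq_self_of_faithfullyFlat]
  haveI : Algebra.FormallySmooth k (↥D' ⧸ KerHopf.kerIdeal ψ') := formallySmooth_of_isReduced _
  -- a curve in the last kernel
  let e₀ := aevalTower ((Ideal.Quotient.mkₐ k L.I).comp (ψ : B →ₐ[k] A)) (Ideal.Quotient.mk L.I L.x')
  have hD'le : D' ≤ e₀.range.comap (Ideal.Quotient.mkₐ k L.I) := by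
    refine sup_le (fun a ha => ⟨C (r a), ?_⟩) (Algebra.adjoin_le ?_)
    · refine (aevalTower_C _ _ _).trans ?_
      rw [← hr₀ ⟨a, ha⟩]
      exact (L.mk_eq ⟨a, ha⟩).symm
    · rintro a rfl
      exact ⟨X, aevalTower_X _ _⟩
  let g : ↥D' →ₐ[k] ↥e₀.range := ((Ideal.Quotient.mkₐ k L.I).comp D'.val).codRestrict e₀.range fun a => hD'le a.2
  let ev : B[X] →ₐ[k] Trunc k q :=
    (Ideal.Quotient.mkₐ k _).comp (Polynomial.mapAlgHom (Bialgebra.counitAlgHom k B))
  have hdvdP : (X : k[X]) ^ q ∣ R.P₀ := X_pow_dvd_iff.2 hlow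
  let θ : ↥e₀.range →ₐ[k] Trunc k q := (Ideal.Quotient.liftₐ (RingHom.ker e₀) ev (fun F hF => by
      obtain ⟨F', rfl⟩ := R.dvd F hF
      refine Ideal.Quotient.eq_zero_iff_mem.2 (Ideal.mem_span_singleton.2 ?_)
      show _ ∣ Polynomial.map _ (R.P * F')
      rw [Polynomial.map_mul]
      exact (hdvdP.trans R.map_counit.symm.dvd).trans (dvd_mul_right _ _))).comp
    (Ideal.quotientKerEquivRange e₀).symm.toAlgHom
  have hθ : ∀ F, θ (e₀.rangeRestrict F) = ev F := fun F => by
    have h2 : (Ideal.quotientKerEquivRange e₀).symm (e₀.rangeRestrict F) = Ideal.Quotient.mk _ F := by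
      rw [AlgEquiv.symm_apply_eq]
      rfl
    simp only [θ, AlgHom.comp_apply, AlgEquiv.coe_toAlgHom]
    rw [h2]
    rfl
  have hθD : ∀ a (ha : a ∈ D), θ (g ⟨a, hle ha⟩) = algebraMap k _ (Coalgebra.counit (R := k) a) := fun a ha => by
    rw [show g ⟨a, hle ha⟩ = e₀.rangeRestrict (C (r a)) from Subtype.ext
      (((L.mk_eq ⟨a, ha⟩).trans (by rw [hr₀]; rfl)).trans (aevalTower_C ((Ideal.Quotient.mkₐ k L.I).comp (ψ : B →ₐ[k] A)) (Ideal.Quotient.mk L.I L.x') (r a)).symm), hθ]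
    show Ideal.Quotient.mk _ (Polynomial.map _ (C (r a))) = _
    rw [map_C]
    simp only [AlgHom.toRingHom_eq_coe, RingHom.coe_coe, Bialgebra.counitAlgHom_apply, CoalgHomClass.counit_comp_apply]
    rfl
  have hkillθ : ∀ c ∈ KerHopf.kerIdeal ψ', (θ.comp g) c = 0 := by
    suffices hk : KerHopf.kerIdeal ψ' ≤ RingHom.ker (θ.comp g) from fun c hc => hk hc
    refine Ideal.map_le_iff_le_comap.2 fun b hb => ?_
    rw [RingHom.mem_ker, Bialgebra.counitAlgHom_apply] at hb
    rw [Ideal.mem_comap, RingHom.mem_ker]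
    show θ (g ⟨ψ b, hle (hBD ⟨b, rfl⟩)⟩) = 0
    rw [hθD (ψ b) (hBD ⟨b, rfl⟩), CoalgHomClass.counit_comp_apply, hb, map_zero]
  have hnil : IsNilpotent (RingHom.ker (down (k := k) q : Trunc k (q + 1) →+* Trunc k q)) := by
    refine ⟨2, le_bot_iff.1 ?_⟩
    rw [Submodule.pow_succ, Submodule.pow_one, Ideal.mul_le]
    intro p hp p' hp'
    obtain ⟨w, rfl⟩ := exists_mul_of_down_eq_zero hp
    obtain ⟨w', rfl⟩ := exists_mul_of_down_eq_zero hp'
    rw [Ideal.mem_bot, mul_mul_mul_comm, sq_X_pow_eq_zero (by omega), zero_mul]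
  let Φ' : ↥D' →ₐ[k] Trunc k (q + 1) := (Algebra.FormallySmooth.liftOfSurjective
    (Ideal.Quotient.liftₐ _ (θ.comp g) hkillθ) (down (k := k) q) (down_surjective _) hnil).comp
      (Ideal.Quotient.mkₐ k (KerHopf.kerIdeal ψ'))
  have hΦ' : ∀ c, down q (Φ' c) = θ (g c) := fun c =>
    Algebra.FormallySmooth.liftOfSurjective_apply _ _ (down_surjective _) hnil _
  have hΦψ : ∀ b, Φ' (ψ' b) = algebraMap k _ (Coalgebra.counit (R := k) b) := fun b => by
    show Algebra.FormallySmooth.liftOfSurjective _ _ _ _ (Ideal.Quotient.mk _ (ψ' b)) = _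
    rw [KerHopf.mk_comp]
    exact AlgHom.commutes _ _
  -- the tangent vector
  let mk1 := Ideal.Quotient.mk (Ideal.span {(X : k[X]) ^ (q + 1)})
  have hcst : ∀ a : ↥D, ∃ c : k, Φ' ⟨a, hle a.2⟩ = mk1 (C (Coalgebra.counit (R := k) (a : A)) + C c * X ^ q) := fun a => by
    obtain ⟨w, hw⟩ := exists_mul_of_down_eq_zero (z := Φ' ⟨a, hle a.2⟩ - mk1 (C (Coalgebra.counit (R := k) (a : A))))
      (by rw [map_sub, hΦ', hθD a a.2, sub_eq_zero]; rfl)
    obtain ⟨w, rfl⟩ := Ideal.Quotient.mk_surjective w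
    refine ⟨w.coeff 0, ?_⟩
    rw [sub_eq_iff_eq_add] at hw
    rw [hw, ← map_mul, ← map_add, add_comm (X ^ q * w)]
    refine Ideal.Quotient.eq.2 (Ideal.mem_span_singleton.2 ?_)
    rw [add_sub_add_left_eq_sub, mul_comm (C (w.coeff 0)), ← mul_sub, pow_succ]
    exact mul_dvd_mul_left _ (X_dvd_iff.2 (by simp))
  choose vt hvt using hcst
  have hinjc : ∀ c d c' d' : k, mk1 (C c + C d * X ^ q) = mk1 (C c' + C d' * X ^ q) → c = c' ∧ d = d' := by
    intro c d c' d' heq
    have h2 := X_pow_dvd_iff.1 (Ideal.mem_span_singleton.1 (Ideal.Quotient.eq.1 heq))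
    have e0 := h2 0 (by omega)
    have eq' := h2 q (by omega)
    have n1 : ¬ (0 = q) := by omega
    have n2 : ¬ (q = 0) := by omega
    rw [coeff_sub, coeff_add, coeff_add, coeff_C_mul_X_pow, coeff_C_mul_X_pow, coeff_C, coeff_C] at e0 eq'
    rw [if_pos rfl, if_pos rfl, if_neg n1, if_neg n1, add_zero, add_zero] at e0
    rw [if_neg n2, if_neg n2, if_pos rfl, if_pos rfl, zero_add, zero_add] at eq'
    exact ⟨sub_eq_zero.1 e0, sub_eq_zero.1 eq'⟩
  let Ψ : ↥D →ₐ[k] Trunc k 2 := AlgHom.ofLinearMap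
    { toFun := fun a => Ideal.Quotient.mk _ (C (Coalgebra.counit (R := k) (a : A)) + C (vt a) * X)
      map_add' := fun a b => by
        rw [← map_add]
        congr 1
        have : mk1 (C (Coalgebra.counit (R := k) ((a + b : ↥D) : A)) + C (vt (a + b)) * X ^ q) =
            mk1 (C (Coalgebra.counit (R := k) (a : A) + Coalgebra.counit (R := k) (b : A)) + C (vt a + vt b) * X ^ q) := by
          rw [← hvt, show (⟨((a + b : ↥D) : A), hle (a + b).2⟩ : ↥D') = ⟨a, hle a.2⟩ + ⟨b, hle b.2⟩ from rfl, map_add,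
            hvt, hvt, ← map_add]
          congr 1
          simp only [C_add]; ring
        obtain ⟨e1, e2⟩ := hinjc _ _ _ _ this
        rw [e1, e2, C_add, C_add]; ring
      map_smul' := fun c a => by
        rw [RingHom.id_apply]
        have : mk1 (C (Coalgebra.counit (R := k) ((c • a : ↥D) : A)) + C (vt (c • a)) * X ^ q) =
            mk1 (C (c * Coalgebra.counit (R := k) (a : A)) + C (c * vt a) * X ^ q) := by
          rw [← hvt, show (⟨((c • a : ↥D) : A), hle (c • a).2⟩ : ↥D') = c • ⟨a, hle a.2⟩ from rfl, map_smul, hvt]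
          show mk1 (c • _) = _
          rw [Polynomial.smul_eq_C_mul]
          congr 1
          simp only [C_mul]; ring
        obtain ⟨e1, e2⟩ := hinjc _ _ _ _ this
        rw [e1, e2, Algebra.smul_def,
          show algebraMap k (Trunc k 2) c = Ideal.Quotient.mk _ (C c) from rfl, ← map_mul]
        congr 1
        simp only [C_mul]; ring }
    (by
      show Ideal.Quotient.mk _ _ = 1
      have : mk1 (C (Coalgebra.counit (R := k) ((1 : ↥D) : A)) + C (vt 1) * X ^ q) = mk1 (C 1 + C 0 * X ^ q) := by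
        rw [← hvt, show (⟨((1 : ↥D) : A), hle (1 : ↥D).2⟩ : ↥D') = 1 from rfl, map_one, C_1, C_0, zero_mul, add_zero,
          map_one]
      obtain ⟨e1, e2⟩ := hinjc _ _ _ _ this
      rw [e1, e2, C_1, C_0, zero_mul, add_zero, map_one])
    (fun a b => by
      show Ideal.Quotient.mk _ _ = Ideal.Quotient.mk _ _ * Ideal.Quotient.mk _ _
      have : mk1 (C (Coalgebra.counit (R := k) ((a * b : ↥D) : A)) + C (vt (a * b)) * X ^ q) =
          mk1 (C (Coalgebra.counit (R := k) (a : A) * Coalgebra.counit (R := k) (b : A)) +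
            C (Coalgebra.counit (R := k) (a : A) * vt b + vt a * Coalgebra.counit (R := k) (b : A)) * X ^ q) := by
        rw [← hvt, show (⟨((a * b : ↥D) : A), hle (a * b).2⟩ : ↥D') = ⟨a, hle a.2⟩ * ⟨b, hle b.2⟩ from rfl, map_mul,
          hvt, hvt, ← map_mul]
        refine Ideal.Quotient.eq.2 (Ideal.mem_span_singleton.2 ⟨C (vt a * vt b) * X ^ (q - 1), ?_⟩)
        have hX : (X : k[X]) ^ (q + 1) * X ^ (q - 1) = X ^ q * X ^ q := by
          rw [← pow_add, ← pow_add]; congr 1; omega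
        simp only [C_add, C_mul]
        linear_combination -(C (vt a) * C (vt b)) * hX
      obtain ⟨e1, e2⟩ := hinjc _ _ _ _ this
      rw [e1, e2]
      refine Eq.trans ?_ (map_mul _ _ _)
      refine Ideal.Quotient.eq.2 (Ideal.mem_span_singleton.2 ⟨-(C (vt a * vt b)), ?_⟩)
      simp only [C_add, C_mul]
      ring)
  have hΨ : ∀ a, Ψ a = Ideal.Quotient.mk _ (C (Coalgebra.counit (R := k) (a : A)) + C (vt a) * X) := fun a => rfl
  have hΨk : Kills ψD Ψ := fun b => by
    rw [hΨ]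
    have : mk1 (C (Coalgebra.counit (R := k) ((ψD b : ↥D) : A)) + C (vt (ψD b)) * X ^ q) =
        mk1 (C (Coalgebra.counit (R := k) b) + C 0 * X ^ q) := by
      rw [← hvt, show (⟨((ψD b : ↥D) : A), hle (ψD b).2⟩ : ↥D') = ψ' b from rfl, hΦψ, C_0, zero_mul, add_zero]
      rfl
    obtain ⟨e1, e2⟩ := hinjc _ _ _ _ this
    rw [e1, e2, C_0, zero_mul, add_zero]
    rfl
  -- the value at the relation
  let a'' : ↥D := ⟨a', ha'⟩ + Polynomial.aeval (⟨y, hy⟩ : ↥D) R.P₀
  have hkillpow : ∀ (T : Type u) [CommRing T] [Algebra k T] (c z : T), z ^ 2 = 0 →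
      Polynomial.aeval (c + z) R.P₀ = Polynomial.aeval c R.P₀ := fun T _ _ c z hz => by
    rw [R.aeval_add, add_eq_left, Polynomial.aeval_eq_sum_range]
    refine Finset.sum_eq_zero fun i _ => ?_
    rcases Nat.lt_or_ge i q with hi | hi
    · rw [hlow i hi, zero_smul]
    · rw [show i = 2 + (i - 2) by omega, pow_add, hz, zero_mul, smul_zero]
  have hva' : vt ⟨a', ha'⟩ = R.P₀.coeff q := by
    have h2 : down q (Φ' ⟨L.x', hx'D⟩ - mk1 X) = 0 := by
      rw [map_sub, hΦ', show g ⟨L.x', hx'D⟩ = e₀.rangeRestrict X from Subtype.ext (aevalTower_X _ _).symm, hθ, sub_eq_zero]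
      show Ideal.Quotient.mk _ (Polynomial.map _ X) = Ideal.Quotient.mk _ X
      rw [map_X]
    obtain ⟨w, hw⟩ := exists_mul_of_down_eq_zero h2
    have h3 : Φ' ⟨a', hle ha'⟩ = mk1 (C 0 + C (R.P₀.coeff q) * X ^ q) := by
      rw [show (⟨a', hle ha'⟩ : ↥D') = Polynomial.aeval (⟨L.x', hx'D⟩ : ↥D') R.P₀ from Subtype.ext
        (Polynomial.aeval_algHom_apply D'.val (⟨L.x', hx'D⟩ : ↥D') R.P₀), ← Polynomial.aeval_algHom_apply, sub_eq_iff_eq_add.1 hw, add_comm (_ * _) (mk1 X),
        hkillpow _ _ _ (by rw [pow_two, mul_mul_mul_comm, sq_X_pow_eq_zero (by omega), zero_mul]), C_0, zero_add,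
        show Polynomial.aeval (mk1 X) R.P₀ = mk1 R.P₀ by
          rw [show mk1 X = Ideal.Quotient.mkₐ k (Ideal.span {(X : k[X]) ^ (q + 1)}) X from rfl,
            Polynomial.aeval_algHom_apply, Polynomial.aeval_X_left_apply]
          rfl]
      refine Ideal.Quotient.eq.2 (Ideal.mem_span_singleton.2 (X_pow_dvd_iff.2 fun i hi => ?_))
      rw [coeff_sub, coeff_C_mul_X_pow]
      split_ifs with h4
      · subst h4; exact sub_self _
      · rw [hlow i (by omega), sub_zero]
    exact (hinjc _ _ _ _ ((hvt ⟨a', ha'⟩).symm.trans h3)).2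
  let φ := Classical.choose (exists_integral_of_linRed (linRed_of_isDiagonalizable hB))
  have hφ : Comod.IsIntegral k φ := Classical.choose_spec (exists_integral_of_linRed (linRed_of_isDiagonalizable hB))
  -- conjugating the last element
  let incB : ↥D ⊗[k] B →ₐ[k] A ⊗[k] B := Algebra.TensorProduct.map D.val (AlgHom.id k B)
  have hincB : Function.Injective incB := HopfSub.map_injective _ _ Subtype.val_injective Function.injective_id
  have hGι : ∀ a : ↥D, incB (G rD a) = G r (a : A) := fun a => map_G_comp r ι a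
  have hgl : IsGroupLikeElem k (ψ h) := hh.map ψ
  obtain ⟨w0, hw0⟩ := exists_G_eq ψ r hr hD hh hψh hx'
  have hGa' : G rD (⟨a', ha'⟩ : ↥D) = (⟨a', ha'⟩ : ↥D) ⊗ₜ[k] (1 : B) + Polynomial.aeval w0 R.P₀ := by
    apply hincB
    rw [hGι, map_add, ← Polynomial.aeval_algHom_apply, ← Polynomial.aeval_algHom_apply incB, hw0, R.aeval_add]
    congr 1
    show _ = a' ⊗ₜ[k] (1 : B)
    simp only [ha'def, Polynomial.aeval_eq_sum_range, TensorProduct.sum_tmul, ← TensorProduct.smul_tmul']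
    refine Finset.sum_congr rfl fun i _ => ?_
    rcases Nat.eq_zero_or_pos i with rfl | hi
    · simp [R.coeff_zero]
    by_cases hp : R.P₀.coeff i = 0
    · simp [hp]
    rw [Algebra.TensorProduct.tmul_pow]
    congr 2
    have h2 : (HopfAlgebra.antipode k h) ^ i * h ^ i = 1 := by rw [← mul_pow, hh.antipode_mul_cancel, one_pow]
    rwa [(R.coeff_ne i hi hp).1, hn, mul_one] at h2
  have hval : ∀ z : ↥D ⊗[k] B, ∃ b₀ : k,
      slice φ (Algebra.TensorProduct.map Ψ (AlgHom.id k B) (Polynomial.aeval z R.P₀)) = Ideal.Quotient.mk _ (C b₀) := fun z => by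
    rw [← Polynomial.aeval_algHom_apply]
    exact exists_slice_aeval_eq hφ.map_one (Ideal.Quotient.mk _ X : Trunc k 2)
      (by rw [← map_mul, ← pow_two]; exact Ideal.Quotient.eq_zero_iff_mem.2 (Ideal.mem_span_singleton_self _))
      (fun c => by
        obtain ⟨c, rfl⟩ := Ideal.Quotient.mk_surjective c
        refine ⟨c.coeff 0, Ideal.Quotient.mk _ c.divX, ?_⟩
        rw [← map_mul]
        refine (congrArg _ (X_mul_divX_add c).symm).trans ?_
        rw [map_add, add_comm]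
        rfl)
      R.P₀ (fun c z hz => hkillpow _ c z hz) _
  obtain ⟨b₁, hb₁⟩ := hval w0
  obtain ⟨b₂, hb₂⟩ := hval (G rD (⟨y, hy⟩ : ↥D))
  obtain ⟨gg, hgg, hgval⟩ := exists_invariant_values ψD rD hrψ hB hφ Ψ hΨk
    (fun c => by
      rw [hΨ]
      show Ideal.Quotient.mk _ (C _ + C _ * X) = Ideal.Quotient.mk _ (C _)
      refine Ideal.Quotient.eq.2 (Ideal.mem_span_singleton.2 ?_)
      show (X : k[X]) ^ 1 ∣ C (Coalgebra.counit (R := k) (c : A)) + C (vt c) * X - C (Coalgebra.counit (R := k) (c : A))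
      rw [pow_one, add_sub_cancel_left]
      exact dvd_mul_left _ _)
    a'' (Coalgebra.counit (R := k) a' + b₁ + b₂) (R.P₀.coeff q) hq0 (by
      rw [map_add (G rD), hGa', ← Polynomial.aeval_algHom_apply (G rD), map_add, map_add, map_add, map_add, hb₁, hb₂,
        Algebra.TensorProduct.map_tmul, AlgHom.id_apply, slice_tmul, hφ.map_one, one_smul, hΨ, hva']
      rw [← map_add, ← map_add]
      congr 1
      simp only [C_add]
      ring)
  refine ⟨gg, hgg, fun ee he => ?_⟩
  obtain ⟨y₀, hk0, hi0, hy0⟩ := hgval ee he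
  obtain ⟨u, hu⟩ := HopfPts.exists_extend hD y₀
  refine ⟨toConv u, WithConv.ext (AlgHom.ext fun b => (hu (ψD b)).trans (hk0 b)), fun a ha => ?_, ?_⟩
  · have h2 : ∀ c : ↥D, Algebra.TensorProduct.map y₀ (AlgHom.id k B) (G rD c) = y₀ c ⊗ₜ[k] (1 : B) := hi0
    have h3 : (rPt rD k)⁻¹ * mapPt Algebra.TensorProduct.includeLeft (toConv y₀ : Pt k ↥D k) * rPt rD k =
        mapPt Algebra.TensorProduct.includeLeft (toConv y₀ : Pt k ↥D k) := by
      rw [← map_G]
      exact WithConv.ext (AlgHom.ext h2)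
    have h4 : (toConv (rD : ↥D →ₐ[k] B) : Pt k ↥D B)⁻¹ * cst (toConv y₀) B * toConv (rD : ↥D →ₐ[k] B) = cst (toConv y₀) B := by
      have h5 := congrArg (mapPt (Algebra.TensorProduct.lid k B).toAlgHom) h3
      have e1 : mapPt (Algebra.TensorProduct.lid k B).toAlgHom (rPt rD k) = toConv (rD : ↥D →ₐ[k] B) :=
        WithConv.ext (AlgHom.ext fun c => by simp [rPt, mapPt])
      have e2 : mapPt (Algebra.TensorProduct.lid k B).toAlgHom
          (mapPt Algebra.TensorProduct.includeLeft (toConv y₀ : Pt k ↥D k)) = cst (toConv y₀) B :=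
        WithConv.ext (AlgHom.ext fun c => by simp [cst, mapPt, Algebra.algebraMap_eq_smul_one])
      rwa [map_mul, map_mul, map_inv, e1, e2] at h5
    have h6 : cst (toConv y₀) B * toConv (rD : ↥D →ₐ[k] B) * (cst (toConv y₀) B)⁻¹ = toConv (rD : ↥D →ₐ[k] B) := by
      rw [mul_assoc, inv_mul_eq_iff_eq_mul] at h4
      rw [h4, mul_inv_cancel_right]
    have h7 : pull ι (cj (toConv u) (toConv (r : A →ₐ[k] B))) = toConv (rD : ↥D →ₐ[k] B) := by
      rw [cj, map_mul, map_mul, map_inv, show pull ι (cst (toConv u) B) = cst (toConv y₀) B from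
        WithConv.ext (AlgHom.ext fun c => congrArg (algebraMap k B) (hu c))]
      exact h6
    exact DFunLike.congr_fun (congrArg WithConv.ofConv h7) ⟨a, ha⟩
  · show Polynomial.aeval (u L.x' + u y) R.P₀ = ee
    rw [← hy0, ← hu a'', ← map_add, Polynomial.aeval_algHom_apply, R.aeval_add,
      show ((a'' : ↥D) : A) = a' + Polynomial.aeval y R.P₀ from congrArg (a' + ·)
        (Polynomial.aeval_algHom_apply D.val (⟨y, hy⟩ : ↥D) R.P₀).symm]

end Groth.Agent.DiagExt19
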