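import Groth.Agent.Comod.TrigUnip
import Groth.Agent.Comod.Image
import Groth.Agent.Comod.Matrix
import Groth.Agent.Comod.Coalg

/-!
# A triangular chain of Hopf subalgebras for an extension of a diagonalizable group by a unipotent one

`A` is exhausted, starting at the image of `B`, by adding one element `x` at a time with
`Δ x ≡ x ⊗ 1 + h ⊗ x` modulo the previous Hopf subalgebra.
-/

set_option autoImplicit false
set_option linter.style.haveILetI false
set_option synthInstance.maxHeartbeats 400000

universe u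

noncomputable section

open TensorProduct

namespace Groth.Agent.DiagExt19

open HopfRep Groth.Agent.Comod

variable {k : Type u} [Field k] {A : Type u} [CommRing A] [HopfAlgebra k A]
  {B : Type u} [CommRing B] [HopfAlgebra k B]

lemma tmul_mem_range {D : Subalgebra k A} {a b : A} (ha : a ∈ D) (hb : b ∈ D) :
    a ⊗ₜ[k] b ∈ (HopfSub.ι₂ D).range :=
  ⟨⟨a, ha⟩ ⊗ₜ[k] ⟨b, hb⟩, rfl⟩

lemma range_mono {D D' : Subalgebra k A} (h : D ≤ D') {t : A ⊗[k] A} (ht : t ∈ (HopfSub.ι₂ D).range) :
    t ∈ (HopfSub.ι₂ D').range := by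
  obtain ⟨w, rfl⟩ := ht
  induction w using TensorProduct.induction_on with
  | zero => rw [map_zero]; exact zero_mem _
  | tmul a b => exact tmul_mem_range (h a.2) (h b.2)
  | add p q hp hq => rw [map_add]; exact add_mem hp hq

lemma comul_mem_range {D : Subalgebra k A} (hD : SGA3.IsHopfSubalgebra k A D) {a : A} (ha : a ∈ D) :
    Coalgebra.comul (R := k) a ∈ (HopfSub.ι₂ D).range := by
  obtain ⟨w, hw⟩ := hD.1 a ha
  exact ⟨w, hw⟩

theorem isHopfSubalgebra_range (ψ : B →ₐc[k] A) :
    SGA3.IsHopfSubalgebra k A (ψ : B →ₐ[k] A).range := by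
  refine ⟨?_, ?_⟩
  · rintro _ ⟨b, rfl⟩
    refine LinearMap.mem_range.2 ?_
    suffices h : ∀ t : B ⊗[k] B, ∃ w, TensorProduct.map (ψ : B →ₐ[k] A).range.val.toLinearMap
        (ψ : B →ₐ[k] A).range.val.toLinearMap w = TensorProduct.map (ψ : B →ₗ[k] A) (ψ : B →ₗ[k] A) t by
      obtain ⟨w, hw⟩ := h (Coalgebra.comul (R := k) b)
      exact ⟨w, hw.trans (CoalgHomClass.map_comp_comul_apply ψ b)⟩
    intro t
    induction t using TensorProduct.induction_on with
    | zero => exact ⟨0, by simp⟩
    | tmul p q => exact ⟨⟨ψ p, p, rfl⟩ ⊗ₜ[k] ⟨ψ q, q, rfl⟩, rfl⟩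
    | add p q hp hq =>
      obtain ⟨p', hp'⟩ := hp
      obtain ⟨q', hq'⟩ := hq
      exact ⟨p' + q', by rw [map_add, map_add, hp', hq']⟩
  · rintro _ ⟨b, rfl⟩
    exact ⟨HopfAlgebra.antipode k b, (KerHopf.map_antipode ψ b).symm⟩

/-- Adding an element primitive modulo a Hopf subalgebra gives a Hopf subalgebra. -/
theorem isHopfSubalgebra_sup {D : Subalgebra k A} (hD : SGA3.IsHopfSubalgebra k A D) {x H : A} (hH : H ∈ D)
    (hx : Coalgebra.comul (R := k) x - x ⊗ₜ[k] (1 : A) - H ⊗ₜ[k] x ∈ (HopfSub.ι₂ D).range) :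
    SGA3.IsHopfSubalgebra k A (D ⊔ Algebra.adjoin k {x}) := by
  set D' := D ⊔ Algebra.adjoin k {x}
  have hle : D ≤ D' := le_sup_left
  have hxD : x ∈ D' := (le_sup_right : _ ≤ D') (Algebra.subset_adjoin rfl)
  have h1 : D' ≤ (HopfSub.ι₂ D').range.comap (Bialgebra.comulAlgHom k A) := by
    refine sup_le (fun a ha => range_mono hle (comul_mem_range hD ha)) (Algebra.adjoin_le ?_)
    rintro a rfl
    show Coalgebra.comul (R := k) a ∈ (HopfSub.ι₂ D').range
    have h := add_mem (add_mem (range_mono hle hx) (tmul_mem_range hxD (one_mem _)))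
      (tmul_mem_range (hle hH) hxD)
    simpa [sub_add_cancel, add_assoc, sub_sub] using h
  have h2 : D' ≤ D'.comap (HopfAlgebra.antipodeAlgHom k A) := by
    refine sup_le (fun a ha => hle (hD.2 a ha)) (Algebra.adjoin_le ?_)
    rintro a rfl
    show HopfAlgebra.antipode k a ∈ D'
    obtain ⟨w, hw⟩ := hx
    have h0 := HopfAlgebra.mul_antipode_rTensor_comul_apply (R := k) a
    rw [show Coalgebra.comul (R := k) a = HopfSub.ι₂ D w + a ⊗ₜ[k] (1 : A) + H ⊗ₜ[k] a by
      rw [show HopfSub.ι₂ D w = _ from hw]; abel] at h0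
    simp only [map_add, LinearMap.rTensor_tmul, LinearMap.mul'_apply, mul_one] at h0
    have hw' : LinearMap.mul' k A ((HopfAlgebra.antipode k).rTensor A (HopfSub.ι₂ D w)) ∈ D' := by
      clear hw h0
      induction w using TensorProduct.induction_on with
      | zero => simp
      | tmul p q => exact D'.mul_mem (hle (hD.2 p p.2)) (hle q.2)
      | add p q hp hq => simp only [map_add]; exact add_mem hp hq
    rw [show HopfAlgebra.antipode k a = algebraMap k A (Coalgebra.counit (R := k) a) -
      LinearMap.mul' k A ((HopfAlgebra.antipode k).rTensor A (HopfSub.ι₂ D w)) -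
      HopfAlgebra.antipode k H * a by rw [← h0]; abel]
    exact sub_mem (sub_mem (D'.algebraMap_mem _) hw') (D'.mul_mem (hle (hD.2 H hH)) hxD)
  refine ⟨fun b hb => ?_, fun b hb => h2 hb⟩
  obtain ⟨w, hw⟩ := h1 hb
  exact ⟨w, hw⟩

/-- A group-like element of a unipotent Hopf algebra is trivial. -/
theorem eq_one_of_isGroupLike (hU : HopfRep.IsUnipotent k A) {a : A} (ha : IsGroupLikeElem k a) : a = 1 := by
  have hc : ∀ φ : A →ₗ[k] k, contract φ a = φ a • a := fun φ => by
    rw [contract_apply]
    change slice φ (Coalgebra.comul (R := k) a) = _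
    rw [ha.comul_eq_tmul_self, slice_tmul]
  have hs : IsSubcomod (k := k) (A := A) (Submodule.span k {a}) := isSubcomod_iff.2 fun φ y hy => by
    obtain ⟨r, rfl⟩ := Submodule.mem_span_singleton.1 hy
    rw [map_smul, hc]
    exact Submodule.smul_mem _ _ (Submodule.smul_mem _ _ (Submodule.mem_span_singleton_self _))
  have hne : a ≠ 0 := fun h => one_ne_zero (α := k) (by rw [← ha.counit_eq_one, h, map_zero])
  obtain ⟨v, hv, hv0, -, b, hb, hvb⟩ := Image.flags_unip hU _ (Module.Finite.span_singleton k a) hs ⊥ bot_le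
    (fun h => hne (Submodule.span_singleton_eq_bot.1 h.symm)) isSubcomod_bot
  obtain ⟨r, rfl⟩ := Submodule.mem_span_singleton.1 hv
  rw [Set.mem_singleton_iff] at hb
  subst hb
  rw [Submodule.mem_bot] at hv0
  rw [← sub_eq_zero]
  refine (Module.forall_dual_apply_eq_zero_iff k _).1 fun φ => ?_
  have h := (Submodule.mem_bot k).1 (hvb φ)
  rw [map_smul, hc, smul_smul, smul_smul, ← sub_smul, smul_eq_zero] at h
  rcases h with h | h
  · rw [map_sub, sub_eq_zero]
    refine mul_left_cancel₀ (a := r) (fun hr => hv0 (by rw [hr, zero_smul])) ?_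
    linear_combination h
  · exact absurd h hne

variable (ψ : B →ₐc[k] A) (hψ : Function.Injective ψ) [(KerHopf.kerIdeal ψ).IsHopfIdeal k]
  (hU : HopfRep.IsUnipotent k (A ⧸ KerHopf.kerIdeal ψ))

include hψ hU in
/-- Every group-like element comes from the quotient. -/
theorem exists_groupLike_preimage {a : A} (ha : IsGroupLikeElem k a) :
    ∃ h : B, IsGroupLikeElem k h ∧ ψ h = a := by
  letI : Algebra B A := (ψ : B →ₐ[k] A).toRingHom.toAlgebra
  haveI : IsScalarTower k B A := IsScalarTower.of_algebraMap_eq fun x => ((ψ : B →ₐ[k] A).commutes x).symm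
  haveI : Module.FaithfullyFlat B A := Groth.Agent.HopfSub.faithfullyFlat ψ (fun _ => rfl) hψ
  let π : A →ₐc[k] A ⧸ KerHopf.kerIdeal ψ := Bialgebra.Quotient.mkBialgHom _
  have hπ : Function.Surjective π := Ideal.Quotient.mk_surjective
  have hker : RingHom.ker (π : A →ₐ[k] A ⧸ KerHopf.kerIdeal ψ) =
      Ideal.map (ψ : B →ₐ[k] A) (RingHom.ker (Bialgebra.counitAlgHom k B)) := by
    ext x
    exact Ideal.Quotient.eq_zero_iff_mem
  have hπa : π a = 1 := eq_one_of_isGroupLike hU (ha.map π)
  have hinv : ExactSeq.rho π a = a ⊗ₜ[k] (1 : A ⧸ KerHopf.kerIdeal ψ) := by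
    rw [ExactSeq.rho, AlgHom.comp_apply, Bialgebra.comulAlgHom_apply, ha.comul_eq_tmul_self]
    exact congrArg (a ⊗ₜ[k] ·) hπa
  obtain ⟨q, hq⟩ := ExactSeq.mem_range_of_rho ψ (fun _ => rfl) π hker hπ a hinv
  refine ⟨q, ⟨?_, ?_⟩, hq⟩
  · rw [← CoalgHomClass.counit_comp_apply ψ, hq]
    exact ha.counit_eq_one
  · apply Groth.Agent.HopfSub.map_injective (ψ : B →ₐ[k] A) (ψ : B →ₐ[k] A) hψ hψ
    refine (CoalgHomClass.map_comp_comul_apply ψ q).trans ?_
    rw [hq, ha.comul_eq_tmul_self]
    show _ = ψ q ⊗ₜ[k] ψ q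
    rw [hq]

variable [Algebra.FiniteType k A] (hB : HopfRep.IsDiagonalizable k B)

include hψ hU hB in
/-- Induction along a triangular chain. -/
theorem chain_induction {P : Subalgebra k A → Prop} (h0 : P (ψ : B →ₐ[k] A).range)
    (hstep : ∀ D : Subalgebra k A, SGA3.IsHopfSubalgebra k A D → (ψ : B →ₐ[k] A).range ≤ D →
      ∀ (x : A) (h : B), IsGroupLikeElem k h →
        Coalgebra.comul (R := k) x - x ⊗ₜ[k] (1 : A) - ψ h ⊗ₜ[k] x ∈ (HopfSub.ι₂ D).range →
        P D → P (D ⊔ Algebra.adjoin k {x})) :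
    P ⊤ := by
  classical
  have hT := TrigUnip.isTrigonalizable_of_ker ψ hψ hB hU
  obtain ⟨S, hS⟩ := Algebra.FiniteType.out (R := k) (A := A)
  obtain ⟨M0, hfin, hSM0, hM0⟩ := exists_finite_subcomod (k := k) (A := A) (V := A) S
  -- a full flag with characters
  have hflag : ∀ n, n ≤ Module.finrank k M0 → ∃ v g : Fin n → A, (∀ j, v j ∈ M0) ∧ LinearIndependent k v ∧
      (∀ j, IsGroupLikeElem k (g j)) ∧
        ∀ j (φ : A →ₗ[k] k), contract φ (v j) - φ (g j) • v j ∈ Submodule.span k (v '' {l | l < j}) := by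
    intro n
    induction n with
    | zero => exact fun _ => ⟨Fin.elim0, Fin.elim0, fun j => j.elim0, linearIndependent_empty_type, fun j => j.elim0,
        fun j => j.elim0⟩
    | succ n ih =>
      intro hn
      obtain ⟨v, g, hv, hli, hg, hvg⟩ := ih (by omega)
      have hM : IsSubcomod (k := k) (A := A) (Submodule.span k (Set.range v)) := isSubcomod_iff.2 fun φ y hy => by
        induction hy using Submodule.span_induction with
        | mem y hy =>
          obtain ⟨j, rfl⟩ := hy
          rw [← sub_add_cancel (contract φ (v j)) (φ (g j) • v j)]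
          exact add_mem (Submodule.span_mono (Set.image_subset_range _ _) (hvg j φ))
            (Submodule.smul_mem _ _ (Submodule.subset_span ⟨j, rfl⟩))
        | zero => simp
        | add p q _ _ hp hq => rw [map_add]; exact add_mem hp hq
        | smul r p _ hp => rw [map_smul]; exact Submodule.smul_mem _ _ hp
      have hle : Submodule.span k (Set.range v) ≤ M0 := Submodule.span_le.2 (Set.range_subset_iff.2 hv)
      have hne : Submodule.span k (Set.range v) ≠ M0 := fun e => by
        have := finrank_span_eq_card hli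
        rw [e, Fintype.card_fin] at this
        omega
      obtain ⟨w, hw, hwn, -, a, ha, hwa⟩ := Image.flags_trig hT M0 hfin hM0 _ hle hne hM
      refine ⟨Fin.snoc v w, Fin.snoc g a, fun j => ?_, linearIndependent_finSnoc.2 ⟨hli, hwn⟩, fun j => ?_,
        fun j φ => ?_⟩
      · refine Fin.lastCases ?_ (fun i => ?_) j
        · simpa using hw
        · simpa using hv i
      · refine Fin.lastCases ?_ (fun i => ?_) j
        · simpa using (show IsGroupLikeElem k a from ha)
        · simpa using hg i
      · refine Fin.lastCases ?_ (fun i => ?_) j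
        · simp only [Fin.snoc_last]
          refine Submodule.span_mono ?_ (hwa φ)
          rintro _ ⟨i, rfl⟩
          exact ⟨i.castSucc, Fin.castSucc_lt_last i, by simp⟩
        · simp only [Fin.snoc_castSucc]
          refine Submodule.span_mono ?_ (hvg i φ)
          rintro _ ⟨l, hl, rfl⟩
          exact ⟨l.castSucc, Fin.castSucc_lt_castSucc_iff.2 hl, by simp⟩
  obtain ⟨v, g, hv, hli, hg, hvg⟩ := hflag _ le_rfl
  letI cM0 : HopfRep.Comod k A M0 := ComodSub.Comod.restr (HopfRep.Comod.regular k A) M0 hM0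
  have hι : Hoch.IsComodHom A M0.subtype :=
    (ComodSub.rTensor_subtype_comp_restrCoact (HopfRep.Comod.regular k A) M0 hM0).symm
  let v' : Fin (Module.finrank k M0) → M0 := fun j => ⟨v j, hv j⟩
  have hli' : LinearIndependent k v' := LinearIndependent.of_comp M0.subtype hli
  let b : Module.Basis (Fin (Module.finrank k M0)) k M0 := Module.Basis.mk hli'
    (Submodule.eq_top_of_finrank_eq (by rw [finrank_span_eq_card hli', Fintype.card_fin])).ge
  let c := mat A b
  have hbv : ∀ j, (b j : A) = v j := fun j => by simp [b, v']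
  have hc : IsMat k c := isMat_mat b
  -- the matrix is upper triangular
  have htri : ∀ i j, j ≤ i → c i j = if i = j then g j else 0 := by
    intro i j hij
    rw [← sub_eq_zero]
    refine (Module.forall_dual_apply_eq_zero_iff k _).1 fun φ => ?_
    have h1 : contract φ (b j) = ∑ l, φ (c l j) • b l := by
      rw [contract_apply, coact_basis, map_sum]
      exact Finset.sum_congr rfl fun l _ => slice_tmul _ _ _
    have h2 : contract φ (b j) - φ (g j) • b j ∈ Submodule.span k (b '' {l | l < j}) := by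
      have h := hvg j φ
      rw [← hbv, show (b j : A) = M0.subtype (b j) from rfl, ← map_contract hι, ← map_smul, ← map_sub,
        show v '' {l | l < j} = M0.subtype '' (b '' {l | l < j}) by
          rw [Set.image_image]; exact Set.image_congr fun l _ => (hbv l).symm,
        ← Submodule.map_span] at h
      obtain ⟨y, hy, hye⟩ := h
      rwa [← M0.injective_subtype hye]
    have h3 : b.repr (contract φ (b j) - φ (g j) • b j) i = 0 :=
      Finsupp.notMem_support_iff.1 fun hi => not_lt.2 hij (b.repr_support_subset_of_mem_span _ h2 hi)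
    rw [h1] at h3
    simp [Finsupp.single_apply] at h3
    rcases eq_or_ne i j with rfl | hne
    · rw [if_pos rfl, map_sub]; simpa using h3
    · rw [if_neg hne, sub_zero]; simpa [Ne.symm hne, hne] using h3
  choose h hh hgh using fun j => exists_groupLike_preimage ψ hψ hU (hg j)
  let u : Fin (Module.finrank k M0) → B := fun j => HopfAlgebra.antipode k (h j)
  have hu : ∀ j, ψ (h j) * ψ (u j) = 1 := fun j => by
    rw [← map_mul, (hh j).mul_antipode_cancel, map_one]
  -- filling up, level by level
  have key : ∀ d, ∃ D : Subalgebra k A, SGA3.IsHopfSubalgebra k A D ∧ (ψ : B →ₐ[k] A).range ≤ D ∧ P D ∧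
      ∀ i j : Fin (Module.finrank k M0), (j : ℕ) ≤ i + d → c i j ∈ D := by
    intro d
    induction d with
    | zero =>
      refine ⟨_, isHopfSubalgebra_range ψ, le_rfl, h0, fun i j hij => ?_⟩
      rw [htri i j (Fin.le_def.2 (by simpa using hij))]
      split
      · exact ⟨h j, hgh j⟩
      · exact zero_mem _
    | succ d ih =>
      obtain ⟨D, hD, hBD, hPD, hcD⟩ := ih
      suffices hs : ∀ s : Finset (Fin (Module.finrank k M0) × Fin (Module.finrank k M0)),
          (∀ p ∈ s, (p.2 : ℕ) = p.1 + d + 1) → ∃ D' : Subalgebra k A, SGA3.IsHopfSubalgebra k A D' ∧ D ≤ D' ∧ P D' ∧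
            ∀ p ∈ s, c p.1 p.2 ∈ D' by
        obtain ⟨D', hD', hle, hP', hc'⟩ := hs (Finset.univ.filter fun p => (p.2 : ℕ) = p.1 + d + 1)
          fun p hp => (Finset.mem_filter.1 hp).2
        refine ⟨D', hD', hBD.trans hle, hP', fun i j hij => ?_⟩
        rcases Nat.lt_or_ge (i + d) j with hlt | hge
        · exact hc' (i, j) (Finset.mem_filter.2 ⟨Finset.mem_univ _, show (j : ℕ) = i + d + 1 by omega⟩)
        · exact hle (hcD i j hge)
      intro s
      induction s using Finset.induction_on with
      | empty => exact fun _ => ⟨D, hD, le_rfl, hPD, by simp⟩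
      | @insert p s hps ihs =>
        intro hp
        obtain ⟨D', hD', hle, hP', hc'⟩ := ihs fun q hq => hp q (Finset.mem_insert_of_mem hq)
        obtain ⟨i, j⟩ := p
        have hij : (j : ℕ) = i + d + 1 := hp (i, j) (Finset.mem_insert_self _ _)
        have hBD' := hBD.trans hle
        have hne : i ≠ j := fun e => by subst e; omega
        let x := c i j * ψ (u j)
        have hH : ψ (h i * u j) ∈ D' := hBD' ⟨_, rfl⟩
        have hcom : Coalgebra.comul (R := k) x - x ⊗ₜ[k] (1 : A) - ψ (h i * u j) ⊗ₜ[k] x ∈ (HopfSub.ι₂ D').range := by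
          have hU' : Coalgebra.comul (R := k) (ψ (u j)) = ψ (u j) ⊗ₜ[k] ψ (u j) :=
            ((hh j).antipode.map ψ).comul_eq_tmul_self
          have e : Coalgebra.comul (R := k) x = ∑ l, (c i l * ψ (u j)) ⊗ₜ[k] (c l j * ψ (u j)) := by
            rw [Bialgebra.comul_mul, hc.comul, hU', Finset.sum_mul]
            simp [Algebra.TensorProduct.tmul_mul_tmul]
          rw [e, ← Finset.add_sum_erase _ _ (Finset.mem_univ i),
            ← Finset.add_sum_erase _ _ (Finset.mem_erase.2 ⟨hne.symm, Finset.mem_univ j⟩)]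
          rw [show c j j * ψ (u j) = 1 by rw [htri j j le_rfl, if_pos rfl, ← hgh, hu],
            show c i i * ψ (u j) = ψ (h i * u j) by rw [htri i i le_rfl, if_pos rfl, ← hgh, map_mul]]
          rw [show ∀ a b s : A ⊗[k] A, a + (b + s) - b - a = s from fun a b s => by abel]
          refine Subalgebra.sum_mem _ fun l hl => ?_
          simp only [Finset.mem_erase, Finset.mem_univ, and_true] at hl
          obtain ⟨hlj, hli'⟩ := hl
          rcases lt_or_ge l i with hlt | hgei
          · rw [htri i l hlt.le, if_neg hli'.symm, zero_mul, TensorProduct.zero_tmul]; exact zero_mem _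
          rcases lt_or_ge j l with hlt | hgej
          · rw [htri l j hlt.le, if_neg hlj, zero_mul, TensorProduct.tmul_zero]; exact zero_mem _
          have h1 : (i : ℕ) < l := lt_of_le_of_ne hgei fun e => hli' (Fin.ext e).symm
          have h2 : (l : ℕ) < j := lt_of_le_of_ne hgej fun e => hlj (Fin.ext e)
          exact tmul_mem_range (D'.mul_mem (hle (hcD i l (by omega))) (hBD' ⟨_, rfl⟩))
            (D'.mul_mem (hle (hcD l j (by omega))) (hBD' ⟨_, rfl⟩))
        refine ⟨D' ⊔ Algebra.adjoin k {x}, isHopfSubalgebra_sup hD' hH hcom, hle.trans le_sup_left,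
          hstep D' hD' hBD' x _ ((hh i).mul (hh j).antipode) hcom hP', fun q hq => ?_⟩
        rcases Finset.mem_insert.1 hq with rfl | hq
        · rw [show c i j = x * ψ (h j) by rw [mul_assoc, mul_comm (ψ (u j)), hu, mul_one]]
          exact Subalgebra.mul_mem _ ((le_sup_right : _ ≤ D' ⊔ Algebra.adjoin k {x}) (Algebra.subset_adjoin rfl))
            ((le_sup_left : D' ≤ _) (hBD' ⟨_, rfl⟩))
        · exact (le_sup_left : D' ≤ _) (hc' q hq)
  obtain ⟨D, -, -, hPD, hcD⟩ := key (Module.finrank k M0)
  have htop : D = ⊤ := by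
    rw [← top_le_iff, ← hS, Algebra.adjoin_le_iff]
    intro a ha
    obtain ⟨a', rfl⟩ : ∃ a' : M0, (a' : A) = a := ⟨⟨a, hSM0 ha⟩, rfl⟩
    have hmem : ∀ j, (b j : A) ∈ D := fun j => by
      have h1 := LinearMap.congr_fun hι (b j)
      simp only [LinearMap.comp_apply, coact_basis, map_sum, LinearMap.rTensor_tmul] at h1
      change Coalgebra.comul (R := k) (b j : A) = _ at h1
      have h2 := congrArg (TensorProduct.lid k A) (Coalgebra.rTensor_counit_comul (R := k) (b j : A))
      rw [h1] at h2
      simp only [map_sum, LinearMap.rTensor_tmul, TensorProduct.lid_tmul, one_smul] at h2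
      rw [← h2]
      exact sum_mem fun l _ => D.smul_mem (hcD l j (by omega)) _
    rw [← b.sum_repr a', Submodule.coe_sum]
    exact sum_mem fun l _ => D.smul_mem (hmem l) _
  exact htop ▸ hPD

end Groth.Agent.DiagExt19
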