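import Groth.Agent.DiagExt19.Step
import Groth.Agent.DynLib.Orbit

/-!
# Conjugation of points and of retractions
-/

set_option autoImplicit false
set_option linter.style.haveILetI false
set_option synthInstance.maxHeartbeats 400000

universe u

noncomputable section

open TensorProduct WithConv
open scoped Groth.Agent.DynLib

namespace Groth.Agent.DiagExt19

open Groth.Agent.Comod Groth.Agent.DynLib

variable {k : Type u} [Field k] {A : Type u} [CommRing A] [HopfAlgebra k A]
  {B : Type u} [CommRing B] [HopfAlgebra k B] {C : Type u} [CommRing C] [Algebra k C]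

/-- a rational point as a point with values in `C` -/
def cst (u : Pt k A k) (C : Type u) [CommRing C] [Algebra k C] : Pt k A C := mapPt (Algebra.ofId k C) u

theorem mapPt_cst {D : Type u} [CommRing D] [Algebra k D] (φ : C →ₐ[k] D) (u : Pt k A k) :
    mapPt φ (cst u C) = cst u D :=
  WithConv.ext (AlgHom.ext fun _ => φ.commutes _)

/-- conjugation by a rational point -/
def cj (u : Pt k A k) (q : Pt k A C) : Pt k A C := cst u C * q * (cst u C)⁻¹

theorem cst_mul (u v : Pt k A k) : cst (u * v) C = cst u C * cst v C := map_mul _ u v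

theorem cj_mul (u v : Pt k A k) (q : Pt k A C) : cj (u * v) q = cj u (cj v q) := by
  simp only [cj, cst_mul, mul_inv_rev, mul_assoc]

theorem cj_one (q : Pt k A C) : cj 1 q = q := by simp [cj, cst, map_one]

/-- restriction of points along a bialgebra map -/
def pull (ψ : B →ₐc[k] A) : Pt k A C →* Pt k B C where
  toFun q := toConv (q.ofConv.comp (ψ : B →ₐ[k] A))
  map_one' := WithConv.ext (AlgHom.ext fun b => by
    show algebraMap k C (Coalgebra.counit (R := k) (ψ b)) = algebraMap k C (Coalgebra.counit (R := k) b)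
    rw [CoalgHomClass.counit_comp_apply])
  map_mul' f g := congrArg toConv (AlgHom.convMul_comp_bialgHom_distrib f g ψ)

theorem toConv_comul : (toConv (Bialgebra.comulAlgHom k A) : Pt k A (A ⊗[k] A)) =
    toConv (Algebra.TensorProduct.includeLeft : A →ₐ[k] A ⊗[k] A) *
      toConv (Algebra.TensorProduct.includeRight : A →ₐ[k] A ⊗[k] A) := by
  apply WithConv.ofConv_injective
  refine AlgHom.ext fun a => ?_
  refine Eq.trans ?_ (AlgHom.convMul_apply _ _ a).symm
  show Coalgebra.comul (R := k) a = _
  induction Coalgebra.comul (R := k) a using TensorProduct.induction_on with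
  | zero => simp
  | tmul x y => simp
  | add x y hx hy => simp only [map_add, ← hx, ← hy]

/-- conjugation by a rational point is an automorphism -/
theorem exists_conj (u : Pt k A k) :
    ∃ c : A →ₐc[k] A, (toConv (c : A →ₐ[k] A) : Pt k A A) = cj u (toConv (AlgHom.id k A)) := by
  set c₀ : Pt k A A := cj u (toConv (AlgHom.id k A)) with hc₀
  refine ⟨BialgHom.ofAlgHom c₀.ofConv ?_ ?_, rfl⟩
  · have h : mapPt (Bialgebra.counitAlgHom k A) c₀ = 1 := by
      rw [hc₀, cj, map_mul, map_mul, map_inv, mapPt_cst,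
        show mapPt (Bialgebra.counitAlgHom k A) (toConv (AlgHom.id k A) : Pt k A A) = 1 from
          WithConv.ext (AlgHom.ext fun a => by simp [mapPt]), mul_one, mul_inv_cancel]
    refine (congrArg WithConv.ofConv h).trans (AlgHom.ext fun a => ?_)
    simp
  · have h : mapPt (Algebra.TensorProduct.map c₀.ofConv c₀.ofConv) (toConv (Bialgebra.comulAlgHom k A)) =
        mapPt (Bialgebra.comulAlgHom k A) c₀ := by
      have hl : mapPt (Algebra.TensorProduct.map c₀.ofConv c₀.ofConv)
          (toConv (Algebra.TensorProduct.includeLeft : A →ₐ[k] A ⊗[k] A)) =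
          mapPt (Algebra.TensorProduct.includeLeft : A →ₐ[k] A ⊗[k] A) c₀ :=
        WithConv.ext (AlgHom.ext fun a => by simp [mapPt])
      have hr : mapPt (Algebra.TensorProduct.map c₀.ofConv c₀.ofConv)
          (toConv (Algebra.TensorProduct.includeRight : A →ₐ[k] A ⊗[k] A)) =
          mapPt (Algebra.TensorProduct.includeRight : A →ₐ[k] A ⊗[k] A) c₀ :=
        WithConv.ext (AlgHom.ext fun a => by simp [mapPt])
      have hL : ∀ φ : A →ₐ[k] A ⊗[k] A, mapPt φ c₀ = cst u _ * toConv φ * (cst u _)⁻¹ := fun φ => by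
        rw [hc₀, cj, map_mul, map_mul, map_inv, mapPt_cst]
        rfl
      rw [toConv_comul, map_mul, hl, hr, hL, hL, hL, toConv_comul]
      simp only [mul_assoc, inv_mul_cancel_left]
    exact congrArg WithConv.ofConv h

/-- conjugating a retraction by a point of the kernel -/
theorem exists_conj_retr (ψ : B →ₐc[k] A) (u : Pt k A k) (hu : pull ψ u = 1) (r : A →ₐc[k] B)
    (hr : r.comp ψ = BialgHom.id k B) :
    ∃ r' : A →ₐc[k] B, r'.comp ψ = BialgHom.id k B ∧
      (toConv (r' : A →ₐ[k] B) : Pt k A B) = cj u (toConv (r : A →ₐ[k] B)) := by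
  obtain ⟨c, hc⟩ := exists_conj u
  have h : (toConv ((r.comp c : A →ₐc[k] B) : A →ₐ[k] B) : Pt k A B) = cj u (toConv (r : A →ₐ[k] B)) := by
    have h1 := congrArg (mapPt (r : A →ₐ[k] B)) hc
    rw [cj, map_mul, map_mul, map_inv, mapPt_cst] at h1
    exact h1
  refine ⟨r.comp c, BialgHom.ext fun b => ?_, h⟩
  have h2 := congrArg (pull ψ) h
  rw [cj, map_mul, map_mul, map_inv, show pull ψ (cst u B) = 1 from
    WithConv.ext (AlgHom.ext fun b => congrArg (algebraMap k B) (DFunLike.congr_fun (congrArg WithConv.ofConv hu) b)),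
    one_mul, inv_one, mul_one] at h2
  exact (DFunLike.congr_fun (congrArg WithConv.ofConv h2) b).trans (DFunLike.congr_fun hr b)

variable {D : Subalgebra k A}

theorem mul_congr_on (hD : SGA3.IsHopfSubalgebra k A D) {U U' V V' : Pt k A C}
    (hU : ∀ a ∈ D, U.ofConv a = U'.ofConv a) (hV : ∀ a ∈ D, V.ofConv a = V'.ofConv a) :
    ∀ a ∈ D, (U * V).ofConv a = (U' * V').ofConv a := by
  intro a ha
  obtain ⟨t, ht⟩ := comul_mem_range hD ha
  change HopfSub.ι₂ D t = _ at ht
  show (U * V) a = (U' * V') a
  rw [AlgHom.convMul_apply, AlgHom.convMul_apply, ← ht]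
  clear ht
  induction t using TensorProduct.induction_on with
  | zero => simp
  | tmul p q => simp [HopfSub.ι₂, hU p p.2, hV q q.2]
  | add p q hp hq => simp only [map_add, hp, hq]

/-- the value of a product at an element primitive modulo `D` -/
theorem mul_apply_sub {x H : A}
    (hx : Coalgebra.comul (R := k) x - x ⊗ₜ[k] (1 : A) - H ⊗ₜ[k] x ∈ (HopfSub.ι₂ D).range)
    {U U' V V' : Pt k A C} (hU : ∀ a ∈ D, U.ofConv a = U'.ofConv a) (hV : ∀ a ∈ D, V.ofConv a = V'.ofConv a) :
    (U * V).ofConv x - (U' * V').ofConv x =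
      (U.ofConv x - U'.ofConv x) + (U.ofConv H * V.ofConv x - U'.ofConv H * V'.ofConv x) := by
  obtain ⟨t, ht⟩ := hx
  change HopfSub.ι₂ D t = _ at ht
  show (U * V) x - (U' * V') x = _
  rw [AlgHom.convMul_apply, AlgHom.convMul_apply,
    show Coalgebra.comul (R := k) x = HopfSub.ι₂ D t + x ⊗ₜ[k] (1 : A) + H ⊗ₜ[k] x by rw [ht]; abel]
  have key : Algebra.TensorProduct.lift U.ofConv V.ofConv (fun _ _ => Commute.all _ _) (HopfSub.ι₂ D t) =
      Algebra.TensorProduct.lift U'.ofConv V'.ofConv (fun _ _ => Commute.all _ _) (HopfSub.ι₂ D t) := by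
    clear ht
    induction t using TensorProduct.induction_on with
    | zero => simp
    | tmul p q => simp [HopfSub.ι₂, hU p p.2, hV q q.2]
    | add p q hp hq => simp only [map_add, hp, hq]
  simp only [map_add, Algebra.TensorProduct.lift_tmul, map_one, mul_one, key]
  ring

theorem mul_apply_groupLike {H : A} (hH : IsGroupLikeElem k H) (U V : Pt k A C) :
    (U * V).ofConv H = U.ofConv H * V.ofConv H := by
  show (U * V) H = _
  rw [AlgHom.convMul_apply, hH.comul_eq_tmul_self, Algebra.TensorProduct.lift_tmul]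
end Groth.Agent.DiagExt19
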