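import Groth.Agent.DiagExt19.Retraction
import Mathlib.FieldTheory.Separable

/-!
# Liftings for an étale unipotent kernel and a connected diagonalizable quotient
-/

set_option autoImplicit false
set_option linter.style.haveILetI false
set_option synthInstance.maxHeartbeats 400000

universe u

noncomputable section

open TensorProduct Polynomial

namespace Groth.Agent.DiagExt19

open Groth.Agent.Comod

variable {k : Type u} [Field k] {A : Type u} [CommRing A] [HopfAlgebra k A]
  {B : Type u} [CommRing B] [HopfAlgebra k B] (ψ : B →ₐc[k] A)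
  {D : Subalgebra k A} {r : ↥D →ₐ[k] B} {x : A} {h : B}

variable {ψ} in
theorem Layer.le_comap (L : Layer ψ r x h) :
    D ⊔ Algebra.adjoin k {x} ≤ (aevalTower ((Ideal.Quotient.mkₐ k L.I).comp (ψ : B →ₐ[k] A))
      (Ideal.Quotient.mk L.I L.x')).range.comap (Ideal.Quotient.mkₐ k L.I) := by
  refine sup_le (fun a ha => ⟨C (r ⟨a, ha⟩), ?_⟩) (Algebra.adjoin_le ?_)
  · exact (aevalTower_C _ _ _).trans (L.mk_eq ⟨a, ha⟩).symm
  · rintro a rfl
    refine ⟨X - C L.v, ?_⟩
    show aevalTower _ _ (X - C L.v) = Ideal.Quotient.mkₐ k L.I a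
    rw [map_sub, aevalTower_X, aevalTower_C, L.eq, map_add]
    exact add_sub_cancel_right _ _

/-- A polynomial vanishing at the layer element in the kernel group is a multiple of the scalar relation. -/
theorem exists_rel_dvd (hB : HopfRep.IsDiagonalizable k B) (hD : SGA3.IsHopfSubalgebra k A D)
    (hBD : (ψ : B →ₐ[k] A).range ≤ D) (hh : IsGroupLikeElem k h)
    (hx : Coalgebra.comul (R := k) x - x ⊗ₜ[k] (1 : A) - ψ h ⊗ₜ[k] x ∈ (HopfSub.ι₂ D).range)
    (L : Layer ψ r x h) (F : k[X]) (hF : F ≠ 0)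
    (hFx : aeval (Ideal.Quotient.mk (KerHopf.kerIdeal ψ) L.x') F = 0) :
    ∃ R : Rel (aevalTower ((Ideal.Quotient.mkₐ k L.I).comp (ψ : B →ₐ[k] A)) (Ideal.Quotient.mk L.I L.x')) h,
      R.P₀ ∣ F := by
  classical
  set e := aevalTower ((Ideal.Quotient.mkₐ k L.I).comp (ψ : B →ₐ[k] A)) (Ideal.Quotient.mk L.I L.x')
  let D' := D ⊔ Algebra.adjoin k {x}
  have hle : D ≤ D' := le_sup_left
  have hBD' : ∀ b, ψ b ∈ D' := fun b => hle (hBD ⟨b, rfl⟩)
  have hD' : SGA3.IsHopfSubalgebra k A D' := isHopfSubalgebra_sup hD (hBD ⟨h, rfl⟩) hx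
  have hx' : L.x' ∈ D' := by
    rw [L.eq]
    exact add_mem ((le_sup_right : _ ≤ D') (Algebra.subset_adjoin rfl)) (hBD' _)
  -- the ideal of the sub-layer
  let K : Ideal ↥D' := (RingHom.ker r).map (Subalgebra.inclusion hle) ⊔
    (RingHom.ker (Bialgebra.counitAlgHom k B)).map ((ψ : B →ₐ[k] A).codRestrict D' hBD')
  have hFK : aeval (⟨L.x', hx'⟩ : ↥D') F ∈ K := by
    letI := HopfSub.hopfAlgebra hD'
    haveI : Module.FaithfullyFlat ↥D' A := HopfSub.faithfullyFlat (HopfSub.incl hD') (fun _ => rfl) Subtype.val_injective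
    rw [← Ideal.comap_map_eq_self_of_faithfullyFlat (B := A) K, Ideal.mem_comap, Ideal.map_sup]
    refine (le_sup_right : _ ≤ Ideal.map (algebraMap ↥D' A) _ ⊔ _) ?_
    rw [Ideal.map_mapₐ ((ψ : B →ₐ[k] A).codRestrict D' hBD') D'.val |> fun e => (show
      Ideal.map (algebraMap ↥D' A) (Ideal.map ((ψ : B →ₐ[k] A).codRestrict D' hBD') (RingHom.ker (Bialgebra.counitAlgHom k B)))
        = KerHopf.kerIdeal ψ from e)]
    refine Ideal.Quotient.eq_zero_iff_mem.1 ?_
    rw [show Ideal.Quotient.mk (KerHopf.kerIdeal ψ) (algebraMap ↥D' A (aeval (⟨L.x', hx'⟩ : ↥D') F)) =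
      aeval (Ideal.Quotient.mk (KerHopf.kerIdeal ψ) L.x') F from ?_, hFx]
    rw [← Ideal.Quotient.mkₐ_eq_mk k, show algebraMap ↥D' A (aeval (⟨L.x', hx'⟩ : ↥D') F) =
      D'.val (aeval (⟨L.x', hx'⟩ : ↥D') F) from rfl, ← aeval_algHom_apply, ← aeval_algHom_apply]
    rfl
  -- pushing forward to the scalar polynomials
  let g : ↥D' →ₐ[k] ↥e.range := ((Ideal.Quotient.mkₐ k L.I).comp D'.val).codRestrict e.range fun a => L.le_comap a.2
  have key : ∀ P₀ : k[X], (∀ G, e G = 0 → P₀ ∣ G.map (Bialgebra.counitAlgHom k B).toRingHom) → P₀ ∣ F := by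
    intro P₀ hdvd
    let ev : B[X] →ₐ[k] k[X] ⧸ Ideal.span {P₀} :=
      (Ideal.Quotient.mkₐ k (Ideal.span {P₀})).comp (Polynomial.mapAlgHom (Bialgebra.counitAlgHom k B))
    let θ : ↥e.range →ₐ[k] k[X] ⧸ Ideal.span {P₀} := (Ideal.Quotient.liftₐ (RingHom.ker e) ev
      (fun G hG => Ideal.Quotient.eq_zero_iff_mem.2 (Ideal.mem_span_singleton.2 (hdvd G hG)))).comp
      (Ideal.quotientKerEquivRange e).symm.toAlgHom
    have hθ : ∀ G, θ (e.rangeRestrict G) = ev G := fun G => by
      have : (Ideal.quotientKerEquivRange e).symm (e.rangeRestrict G) = Ideal.Quotient.mk _ G := by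
        rw [AlgEquiv.symm_apply_eq]
        rfl
      simp only [θ, AlgHom.comp_apply, AlgEquiv.coe_toAlgHom]
      rw [this]
      rfl
    have hK : K ≤ RingHom.ker (θ.comp g) := by
      refine sup_le (Ideal.map_le_iff_le_comap.2 fun a ha => ?_) (Ideal.map_le_iff_le_comap.2 fun b hb => ?_)
      · rw [Ideal.mem_comap, RingHom.mem_ker, AlgHom.comp_apply,
          show g (Subalgebra.inclusion hle a) = e.rangeRestrict (C (r a)) from Subtype.ext
            ((L.mk_eq a).trans (aevalTower_C ((Ideal.Quotient.mkₐ k L.I).comp (ψ : B →ₐ[k] A)) (Ideal.Quotient.mk L.I L.x') (r a)).symm), hθ, show r a = 0 from ha, C_0, map_zero]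
      · rw [RingHom.mem_ker, Bialgebra.counitAlgHom_apply] at hb
        rw [Ideal.mem_comap, RingHom.mem_ker, AlgHom.comp_apply,
          show g (((ψ : B →ₐ[k] A).codRestrict D' hBD') b) = e.rangeRestrict (C b) from Subtype.ext
            (show Ideal.Quotient.mkₐ k L.I (ψ b) = e (C b) from (aevalTower_C ((Ideal.Quotient.mkₐ k L.I).comp (ψ : B →ₐ[k] A)) (Ideal.Quotient.mk L.I L.x') b).symm), hθ]
        simp [ev, hb]
    have h0 : θ (g (aeval (⟨L.x', hx'⟩ : ↥D') F)) = 0 := hK hFK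
    rw [show g (aeval (⟨L.x', hx'⟩ : ↥D') F) = e.rangeRestrict (F.map (algebraMap k B)) from ?_, hθ] at h0
    · refine Ideal.mem_span_singleton.1 (Ideal.Quotient.eq_zero_iff_mem.1 ?_)
      have hmm : (F.map (algebraMap k B)).map (Bialgebra.counitAlgHom k B).toRingHom = F := by
        rw [Polynomial.map_map]
        exact (congrArg (F.map ·) (RingHom.ext fun c => by simp)).trans Polynomial.map_id
      rw [← hmm]
      exact h0
    · rw [← aeval_algHom_apply,
        show g ⟨L.x', hx'⟩ = e.rangeRestrict X from Subtype.ext (aevalTower_X _ _).symm, aeval_algHom_apply]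
      congr 1
  by_cases hne : ∃ G, e G = 0 ∧ G ≠ 0
  · obtain ⟨R⟩ := nonempty_rel hB L.ΔQ _ L.injective L.comul_j _ hh L.comul_x hne
    refine ⟨R, key R.P₀ fun G hG => ?_⟩
    obtain ⟨G', rfl⟩ := R.dvd G hG
    rw [Polynomial.map_mul, R.map_counit]
    exact dvd_mul_right _ _
  · exfalso
    refine hF (zero_dvd_iff.1 (key 0 fun G hG => ?_))
    rw [of_not_not fun hG0 => hne ⟨G, hG, hG0⟩, Polynomial.map_zero]

/-- the two cases for a layer with étale kernel -/
theorem Rel.cases {Q : Type u} [CommRing Q] [Algebra k Q] {e : B[X] →ₐ[k] Q} (R : Rel e h)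
    (hh : IsGroupLikeElem k h) (hsep : R.P₀.Separable) (hconn : ∀ g : B, IsGroupLikeElem k g → ∀ m : ℕ, (m : k) ≠ 0 → g ^ m = 1 → g = 1) :
    h = 1 ∨ R.n = 1 := by
  rcases eq_or_ne R.n 1 with h1 | h1
  · exact Or.inr h1
  refine Or.inl ?_
  have hn : 1 < R.n := by have := R.pos; omega
  have hn0 : (R.n : k) = 0 := by
    have := (R.coeff_ne R.n R.pos (by rw [← R.natDegree₀, R.monic₀.coeff_natDegree]; exact one_ne_zero)).2 1 one_pos hn
    rwa [Nat.choose_one_right] at this
  have hp1 : R.P₀.coeff 1 ≠ 0 := by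
    intro hp
    have hd : derivative R.P₀ = 0 := by
      ext i
      rw [coeff_derivative, Polynomial.coeff_zero]
      rcases Nat.eq_zero_or_pos i with rfl | hi
      · simp [hp]
      · by_cases hpi : R.P₀.coeff (i + 1) = 0
        · rw [hpi, zero_mul]
        · have := (R.coeff_ne (i + 1) (Nat.succ_pos i) hpi).2 1 one_pos (by omega)
          rw [Nat.choose_one_right, Nat.cast_add, Nat.cast_one] at this
          rw [this, mul_zero]
    have hu := hsep
    rw [separable_def, hd, isCoprime_zero_right] at hu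
    have := natDegree_eq_zero_of_isUnit hu
    rw [R.natDegree₀] at this
    omega
  have hpow := (R.coeff_ne 1 one_pos hp1).1
  refine hconn h hh (R.n - 1) ?_ ?_
  · rw [Nat.cast_sub hn.le, hn0, Nat.cast_one, zero_sub]
    simp
  · refine hh.isUnit.mul_left_cancel ?_
    rw [mul_one, ← pow_succ', Nat.sub_add_cancel hn.le, ← hpow, pow_one]


/-- a skew primitive element of a diagonalizable Hopf algebra is a multiple of `1 - h` -/
theorem eq_smul_of_skew (hB : HopfRep.IsDiagonalizable k B) {f h : B}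
    (hf : Coalgebra.comul (R := k) f = f ⊗ₜ[k] (1 : B) + h ⊗ₜ[k] f) : ∃ c : k, f = c • (1 - h) := by
  obtain ⟨φ, hφ⟩ := exists_integral_of_linRed (linRed_of_isDiagonalizable hB)
  refine ⟨φ f, ?_⟩
  have h2 := congrArg (slice φ) hf
  rw [hφ.slice_comul, map_add, slice_tmul, slice_tmul, hφ.map_one, one_smul] at h2
  rw [smul_sub, h2, add_sub_cancel_right]

theorem exists_layer_rel (hB : HopfRep.IsDiagonalizable k B) (hD : SGA3.IsHopfSubalgebra k A D)
    (hBD : (ψ : B →ₐ[k] A).range ≤ D) (hr : IsRetr ψ r) (hh : IsGroupLikeElem k h)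
    (hx : Coalgebra.comul (R := k) x - x ⊗ₜ[k] (1 : A) - ψ h ⊗ₜ[k] x ∈ (HopfSub.ι₂ D).range)
    (hsep : ∀ y : A ⧸ KerHopf.kerIdeal ψ, ∃ F : k[X], F.Separable ∧ aeval y F = 0)
    (hconn : ∀ g : B, IsGroupLikeElem k g → ∀ m : ℕ, (m : k) ≠ 0 → g ^ m = 1 → g = 1) :
    ∃ L : Layer ψ r x h, ∃ R : Rel (aevalTower ((Ideal.Quotient.mkₐ k L.I).comp (ψ : B →ₐ[k] A))
      (Ideal.Quotient.mk L.I L.x')) h, h = 1 ∨ R.n = 1 := by
  obtain ⟨L⟩ := nonempty_layer hB ψ hD hBD r hr x hh hx
  obtain ⟨F, hF, hFx⟩ := hsep (Ideal.Quotient.mk _ L.x')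
  obtain ⟨R, hR⟩ := exists_rel_dvd ψ hB hD hBD hh hx L F hF.ne_zero hFx
  exact ⟨L, R, R.cases hh (hF.of_dvd hR) hconn⟩

theorem exists_step_etale (hB : HopfRep.IsDiagonalizable k B) (hD : SGA3.IsHopfSubalgebra k A D)
    (hBD : (ψ : B →ₐ[k] A).range ≤ D) (hr : IsRetr ψ r) (hh : IsGroupLikeElem k h)
    (hx : Coalgebra.comul (R := k) x - x ⊗ₜ[k] (1 : A) - ψ h ⊗ₜ[k] x ∈ (HopfSub.ι₂ D).range)
    (hsep : ∀ y : A ⧸ KerHopf.kerIdeal ψ, ∃ F : k[X], F.Separable ∧ aeval y F = 0)
    (hconn : ∀ g : B, IsGroupLikeElem k g → ∀ m : ℕ, (m : k) ≠ 0 → g ^ m = 1 → g = 1) :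
    ∃ r' : ↥(D ⊔ Algebra.adjoin k {x}) →ₐ[k] B, IsRetr ψ r' := by
  obtain ⟨L, R, hc⟩ := exists_layer_rel ψ hB hD hBD hr hh hx hsep hconn
  refine L.exists_extend ψ ((-R.d) • (1 - h)) (fun F hF => ?_) ?_
  · obtain ⟨G, rfl⟩ := R.dvd F hF
    rw [eval_mul, R.eval_smul]
    rcases hc with h1 | h1
    · rw [show (1 : B) - h ^ R.n = 0 by simp [h1], smul_zero, zero_mul]
    · have hP0 : R.P₀ = X := by
        rw [R.monic₀.eq_X_add_C (R.natDegree₀.trans h1), R.coeff_zero, C_0, add_zero]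
      rw [hP0, eval_X, neg_add_cancel, zero_smul, zero_mul]
  · rw [map_smul, map_sub, Bialgebra.comul_one, hh.comul_eq_tmul_self, Algebra.TensorProduct.one_def,
      TensorProduct.tmul_smul, ← TensorProduct.smul_tmul', ← smul_add, TensorProduct.sub_tmul,
      TensorProduct.tmul_sub]
    congr 1
    abel

theorem unique_step_etale (hB : HopfRep.IsDiagonalizable k B) (hD : SGA3.IsHopfSubalgebra k A D)
    (hBD : (ψ : B →ₐ[k] A).range ≤ D) (r₁ r₂ : A →ₐc[k] B) (h₁ : r₁.comp ψ = BialgHom.id k B)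
    (h₂ : r₂.comp ψ = BialgHom.id k B) (heq : ∀ a ∈ D, r₁ a = r₂ a) (hh : IsGroupLikeElem k h)
    (hx : Coalgebra.comul (R := k) x - x ⊗ₜ[k] (1 : A) - ψ h ⊗ₜ[k] x ∈ (HopfSub.ι₂ D).range)
    (hsep : ∀ y : A ⧸ KerHopf.kerIdeal ψ, ∃ F : k[X], F.Separable ∧ aeval y F = 0)
    (hconn : ∀ g : B, IsGroupLikeElem k g → ∀ m : ℕ, (m : k) ≠ 0 → g ^ m = 1 → g = 1) :
    r₁ x = r₂ x := by
  classical
  let r₀ : ↥D →ₐ[k] B := (r₁ : A →ₐ[k] B).comp D.val
  have hr : IsRetr ψ r₀ := ⟨fun b _ => DFunLike.congr_fun h₁ b, fun t a hta => by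
    show _ = Coalgebra.comul (R := k) (r₁ (a : A))
    rw [← CoalgHomClass.map_comp_comul_apply r₁, ← hta]
    clear hta
    induction t using TensorProduct.induction_on with
    | zero => simp
    | tmul p q => rfl
    | add p q hp hq => simp only [map_add, hp, hq]⟩
  obtain ⟨L, R, hc⟩ := exists_layer_rel ψ hB hD hBD hr hh hx hsep hconn
  let π := Ideal.Quotient.mkₐ k L.I
  let j := π.comp (ψ : B →ₐ[k] A)
  have main : ∀ q : A →ₐc[k] B, q.comp ψ = BialgHom.id k B → (∀ a : ↥D, q (a : A) = r₀ a) →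
      q L.x' = if h = 1 then 0 else (-R.d) • (1 - h) := by
    intro q hq hqD
    have hψq : ∀ b, q (ψ b) = b := fun b => DFunLike.congr_fun hq b
    obtain ⟨c, hcq⟩ : ∃ c : k, q L.x' = c • (1 - h) := by
      refine eq_smul_of_skew hB ?_
      rw [← CoalgHomClass.map_comp_comul_apply q]
      obtain ⟨t, ht⟩ := hx
      change HopfSub.ι₂ D t = _ at ht
      have hz : TensorProduct.map (q : A →ₗ[k] B) (q : A →ₗ[k] B) (HopfSub.ι₂ D t) =
          Algebra.TensorProduct.map r₀ r₀ t := by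
        clear ht
        induction t using TensorProduct.induction_on with
        | zero => simp
        | tmul p p' => exact congrArg₂ (· ⊗ₜ[k] ·) (hqD p) (hqD p')
        | add p p' hp hp' => simp only [map_add, hp, hp']
      have hz1 : TensorProduct.map (r₁ : A →ₗ[k] B) (r₁ : A →ₗ[k] B) (HopfSub.ι₂ D t) =
          Algebra.TensorProduct.map r₀ r₀ t := by
        clear ht hz
        induction t using TensorProduct.induction_on with
        | zero => simp
        | tmul p p' => rfl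
        | add p p' hp hp' => simp only [map_add, hp, hp']
      have hcong : ∀ q' : A →ₐc[k] B, (∀ b, q' (ψ b) = b) →
          TensorProduct.map (q' : A →ₗ[k] B) (q' : A →ₗ[k] B) (Coalgebra.comul (R := k) L.x') -
            q' L.x' ⊗ₜ[k] (1 : B) - h ⊗ₜ[k] q' L.x' =
          TensorProduct.map (q' : A →ₗ[k] B) (q' : A →ₗ[k] B) (HopfSub.ι₂ D t) +
            (Coalgebra.comul (R := k) L.v - L.v ⊗ₜ[k] (1 : B) - h ⊗ₜ[k] L.v) := by
        intro q' hq'
        have hψv : TensorProduct.map (q' : A →ₗ[k] B) (q' : A →ₗ[k] B) (Coalgebra.comul (R := k) (ψ L.v)) =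
            Coalgebra.comul (R := k) L.v := by
          rw [CoalgHomClass.map_comp_comul_apply q', hq']
        have hq1 : q' (1 : A) = 1 := map_one q'
        rw [ht, L.eq, map_add, map_add]
        simp only [map_sub, map_add, TensorProduct.map_tmul, LinearMap.coe_coe, hq', hq1, hψv,
          TensorProduct.add_tmul, TensorProduct.tmul_add]
        abel
      have e0 := hcong q hψq
      have hw : TensorProduct.map (r₁ : A →ₗ[k] B) (r₁ : A →ₗ[k] B) (HopfSub.ι₂ D t) +
          (Coalgebra.comul (R := k) L.v - L.v ⊗ₜ[k] (1 : B) - h ⊗ₜ[k] L.v) = 0 := by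
        apply HopfSub.map_injective j j L.injective L.injective
        rw [map_zero, hz1, map_add, map_sub, map_sub, ← L.comul_j]
        have key : ∀ s : ↥D ⊗[k] ↥D, Algebra.TensorProduct.map j j (Algebra.TensorProduct.map r₀ r₀ s) =
            Algebra.TensorProduct.map π π (HopfSub.ι₂ D s) := fun s => by
          induction s using TensorProduct.induction_on with
          | zero => simp
          | tmul p p' => exact (congrArg₂ (· ⊗ₜ[k] ·) (L.mk_eq p) (L.mk_eq p')).symm
          | add p p' hp hp' => simp only [map_add, hp, hp']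
        rw [key, ht, show L.ΔQ (j L.v) = Algebra.TensorProduct.map π π (Coalgebra.comul (R := k) (ψ L.v)) from
          L.ΔQ_mk _]
        have hx2 := (L.ΔQ_mk L.x').symm.trans L.comul_x
        simp only [L.eq, map_add, map_sub, Algebra.TensorProduct.map_tmul, TensorProduct.add_tmul,
          TensorProduct.tmul_add] at hx2 ⊢
        simp only [j, AlgHom.comp_apply, π, Ideal.Quotient.mkₐ_eq_mk, map_one,
          BialgHom.coe_toAlgHom] at hx2 ⊢
        linear_combination (norm := abel) hx2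
      rw [hz] at e0
      rw [hz1] at hw
      rw [hw, sub_sub, sub_eq_zero] at e0
      exact e0
    by_cases h1 : h = 1
    · rw [if_pos h1, hcq, h1, sub_self, smul_zero]
    rw [if_neg h1, hcq]
    have hn : R.n = 1 := hc.resolve_left h1
    have hP : R.P.eval (q L.x') = 0 := by
      have : ∀ G : B[X], aevalTower j (π L.x') G = π (aevalTower (ψ : B →ₐ[k] A) L.x' G) := fun G => by
        induction G using Polynomial.induction_on' with
        | add p p' hp hp' => simp only [map_add, hp, hp']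
        | monomial i b => simp [j, ← C_mul_X_pow_eq_monomial]
      have hqev : ∀ G : B[X], G.eval (q L.x') = q (aevalTower (ψ : B →ₐ[k] A) L.x' G) := fun G => by
        induction G using Polynomial.induction_on' with
        | add p p' hp hp' => simp only [map_add, eval_add, hp, hp']
        | monomial i b => simp [← C_mul_X_pow_eq_monomial, hψq]
      rw [hqev]
      have h0 : π (aevalTower (ψ : B →ₐ[k] A) L.x' R.P) = 0 := (this R.P).symm.trans R.map_eq
      have hqI : L.I ≤ RingHom.ker (q : A →ₐ[k] B) := by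
        rw [L.I_eq]
        exact Ideal.map_le_iff_le_comap.2 fun a ha => (hqD a).trans ha
      exact hqI (Ideal.Quotient.eq_zero_iff_mem.1 h0)
    have hP0 : R.P₀ = X := by
      rw [R.monic₀.eq_X_add_C (R.natDegree₀.trans hn), R.coeff_zero, C_0, add_zero]
    rw [hcq, R.eval_smul, hP0, eval_X, hn, pow_one, add_smul, add_eq_zero_iff_eq_neg, ← neg_smul] at hP
    exact hP
  have e1 := main r₁ h₁ fun a => rfl
  have e2 := main r₂ h₂ fun a => (heq a a.2).symm
  have := e1.trans e2.symm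
  rwa [L.eq, map_add, map_add, DFunLike.congr_fun h₁ L.v |> fun e => (show r₁ (ψ L.v) = L.v from e),
    DFunLike.congr_fun h₂ L.v |> fun e => (show r₂ (ψ L.v) = L.v from e), add_left_inj] at this

end Groth.Agent.DiagExt19
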