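import Groth.Agent.DiagExt19.Center
import Groth.Agent.DiagExt19.EtaleKernel

/-!
# Liftings of a diagonalizable quotient are conjugate by a point of the unipotent kernel
-/

set_option autoImplicit false
set_option linter.style.haveILetI false
set_option synthInstance.maxHeartbeats 400000

universe u

noncomputable section

open TensorProduct WithConv Polynomial
open scoped Groth.Agent.DynLib

namespace Groth.Agent.DiagExt19

open Groth.Agent.Comod Groth.Agent.DynLib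

variable {k : Type u} [Field k] {A : Type u} [CommRing A] [HopfAlgebra k A]
  {B : Type u} [CommRing B] [HopfAlgebra k B] (ψ : B →ₐc[k] A) {D : Subalgebra k A}

theorem isRetr_restrict (r : A →ₐc[k] B) (hr : r.comp ψ = BialgHom.id k B) :
    IsRetr ψ ((r : A →ₐ[k] B).comp D.val) :=
  ⟨fun b _ => DFunLike.congr_fun hr b, fun t a hta => by
    show _ = Coalgebra.comul (R := k) (r (a : A))
    rw [← CoalgHomClass.map_comp_comul_apply r, ← hta]
    clear hta
    induction t using TensorProduct.induction_on with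
    | zero => simp
    | tmul p q => rfl
    | add p q hp hq => simp only [map_add, hp, hq]⟩

variable {ψ} {x : A} {h : B} {r₀ : ↥D →ₐ[k] B}

theorem Layer.skew_mem (L : Layer ψ r₀ x h) (hD : SGA3.IsHopfSubalgebra k A D) (hBD : (ψ : B →ₐ[k] A).range ≤ D)
    (hx : Coalgebra.comul (R := k) x - x ⊗ₜ[k] (1 : A) - ψ h ⊗ₜ[k] x ∈ (HopfSub.ι₂ D).range) :
    Coalgebra.comul (R := k) L.x' - L.x' ⊗ₜ[k] (1 : A) - ψ h ⊗ₜ[k] L.x' ∈ (HopfSub.ι₂ D).range := by
  have hv : ψ L.v ∈ D := hBD ⟨_, rfl⟩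
  have e1 : Coalgebra.comul (R := k) (ψ L.v) ∈ (HopfSub.ι₂ D).range := comul_mem_range hD hv
  have e2 : ψ L.v ⊗ₜ[k] (1 : A) ∈ (HopfSub.ι₂ D).range :=
    ⟨(⟨ψ L.v, hv⟩ : ↥D) ⊗ₜ[k] (⟨1, one_mem D⟩ : ↥D), rfl⟩
  have e3 : ψ h ⊗ₜ[k] ψ L.v ∈ (HopfSub.ι₂ D).range :=
    ⟨(⟨ψ h, hBD ⟨_, rfl⟩⟩ : ↥D) ⊗ₜ[k] (⟨ψ L.v, hv⟩ : ↥D), rfl⟩
  have := add_mem hx (sub_mem (sub_mem e1 e2) e3)
  convert this using 1
  rw [L.eq, map_add, TensorProduct.add_tmul, TensorProduct.tmul_add]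
  abel

/-- the value of a retraction at the layer element -/
theorem Layer.exists_value (L : Layer ψ r₀ x h) (hB : HopfRep.IsDiagonalizable k B) (hh : IsGroupLikeElem k h)
    (q : A →ₐc[k] B) (hq : q.comp ψ = BialgHom.id k B) (hqD : ∀ a : ↥D, q (a : A) = r₀ a) :
    (∀ F : B[X], aevalTower ((Ideal.Quotient.mkₐ k L.I).comp (ψ : B →ₐ[k] A)) (Ideal.Quotient.mk L.I L.x') F = 0 →
      F.eval (q L.x') = 0) ∧ Coalgebra.counit (R := k) L.x' = 0 ∧ ∃ c : k, q L.x' = c • (1 - h) := by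
  have hI : ∀ a ∈ L.I, q a = 0 := by
    suffices h1 : L.I ≤ RingHom.ker (q : A →ₐ[k] B) from fun a ha => h1 ha
    rw [L.I_eq]
    exact Ideal.map_le_iff_le_comap.2 fun a ha => (hqD a).trans ha
  have hψq : ∀ b, q (ψ b) = b := fun b => DFunLike.congr_fun hq b
  let qI : A ⧸ L.I →ₐ[k] B := Ideal.Quotient.liftₐ L.I (q : A →ₐ[k] B) hI
  have hqI : ∀ a, qI (Ideal.Quotient.mk L.I a) = q a := fun a => rfl
  have hskew : Coalgebra.comul (R := k) (q L.x') = q L.x' ⊗ₜ[k] (1 : B) + h ⊗ₜ[k] q L.x' := by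
    have h1 : ∀ z : A ⊗[k] A, TensorProduct.map (q : A →ₗ[k] B) (q : A →ₗ[k] B) z =
        Algebra.TensorProduct.map qI qI
          (Algebra.TensorProduct.map (Ideal.Quotient.mkₐ k L.I) (Ideal.Quotient.mkₐ k L.I) z) := fun z => by
      induction z using TensorProduct.induction_on with
      | zero => simp
      | tmul a b => rfl
      | add a b ha hb => simp only [map_add, ha, hb]
    rw [← CoalgHomClass.map_comp_comul_apply q, h1, ← L.ΔQ_mk, L.comul_x]
    simp [hqI, hψq]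
  obtain ⟨c, hc⟩ := eq_smul_of_skew hB hskew
  refine ⟨fun F hF => ?_, ?_, c, hc⟩
  · have hev : ∀ G : B[X], G.eval (q L.x') =
        qI (aevalTower ((Ideal.Quotient.mkₐ k L.I).comp (ψ : B →ₐ[k] A)) (Ideal.Quotient.mk L.I L.x') G) := fun G => by
      induction G using Polynomial.induction_on' with
      | add p p' hp hp' => simp only [map_add, eval_add, hp, hp']
      | monomial i b => simp [← C_mul_X_pow_eq_monomial, hqI, hψq]
    rw [hev, hF, map_zero]
  · rw [← CoalgHomClass.counit_comp_apply q, hc, map_smul, map_sub, hh.counit_eq_one, Bialgebra.counit_one, sub_self,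
      smul_zero]

variable {C : Type u} [CommRing C] [Algebra k C]

theorem pull_cst {u : Pt k A k} (hu : pull ψ u = 1) : pull ψ (cst u C) = 1 :=
  WithConv.ext (AlgHom.ext fun b => congrArg (algebraMap k C) (DFunLike.congr_fun (congrArg WithConv.ofConv hu) b))

theorem cst_apply_ψ {u : Pt k A k} (hu : pull ψ u = 1) {b : B} (hb : IsGroupLikeElem k b) :
    (cst u C).ofConv (ψ b) = 1 := by
  refine (DFunLike.congr_fun (congrArg WithConv.ofConv (pull_cst (C := C) hu)) b).trans ?_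
  rw [one_apply, hb.counit_eq_one, map_one]

/-- conjugation shifts differences trivially -/
theorem cj_apply_sub (hD : SGA3.IsHopfSubalgebra k A D) (hh : IsGroupLikeElem k h) (hψh : ψ h ∈ D) {z : A}
    (hz : Coalgebra.comul (R := k) z - z ⊗ₜ[k] (1 : A) - ψ h ⊗ₜ[k] z ∈ (HopfSub.ι₂ D).range)
    {u : Pt k A k} (hu : pull ψ u = 1) (V W : Pt k A C) (hVW : ∀ a ∈ D, W.ofConv a = V.ofConv a) :
    (cj u W).ofConv z - (cj u V).ofConv z = W.ofConv z - V.ofConv z := by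
  have hUV : ∀ a ∈ D, (cst u C * W).ofConv a = (cst u C * V).ofConv a := mul_congr_on hD (fun a _ => rfl) hVW
  rw [cj, cj, mul_apply_sub hz hUV (fun a _ => rfl), mul_apply_sub hz (fun a _ => rfl) hVW, hUV _ hψh,
    cst_apply_ψ hu hh]
  ring

theorem cj_congr_on (hD : SGA3.IsHopfSubalgebra k A D) (u : Pt k A k) {V W : Pt k A C}
    (hVW : ∀ a ∈ D, W.ofConv a = V.ofConv a) : ∀ a ∈ D, (cj u W).ofConv a = (cj u V).ofConv a :=
  mul_congr_on hD (mul_congr_on hD (fun _ _ => rfl) hVW) fun _ _ => rfl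

theorem mul_apply_split {z H : A} {t : ↥D ⊗[k] ↥D}
    (ht : HopfSub.ι₂ D t = Coalgebra.comul (R := k) z - z ⊗ₜ[k] (1 : A) - H ⊗ₜ[k] z) (U V : Pt k A C) :
    (U * V).ofConv z = Algebra.TensorProduct.lift U.ofConv V.ofConv (fun _ _ => Commute.all _ _) (HopfSub.ι₂ D t) +
      U.ofConv z + U.ofConv H * V.ofConv z := by
  show (U * V) z = _
  rw [AlgHom.convMul_apply,
    show Coalgebra.comul (R := k) z = HopfSub.ι₂ D t + z ⊗ₜ[k] (1 : A) + H ⊗ₜ[k] z by rw [ht]; abel]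
  simp only [map_add, Algebra.TensorProduct.lift_tmul, map_one, mul_one]

/-- shifting the value at the layer element by a root of the relation -/
theorem exists_shift [IsAlgClosed k] (hD : SGA3.IsHopfSubalgebra k A D) (hBD : (ψ : B →ₐ[k] A).range ≤ D)
    (hh : IsGroupLikeElem k h) (L : Layer ψ r₀ x h) (hx0 : Coalgebra.counit (R := k) L.x' = 0)
    (hz : Coalgebra.comul (R := k) L.x' - L.x' ⊗ₜ[k] (1 : A) - ψ h ⊗ₜ[k] L.x' ∈ (HopfSub.ι₂ D).range)
    (q : A →ₐc[k] B) (hq : q.comp ψ = BialgHom.id k B) (hqD : ∀ a : ↥D, q (a : A) = r₀ a) (t : k)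
    (ht : ∀ F : B[X], aevalTower ((Ideal.Quotient.mkₐ k L.I).comp (ψ : B →ₐ[k] A)) (Ideal.Quotient.mk L.I L.x') F = 0 →
      (F.map (Bialgebra.counitAlgHom k B).toRingHom).eval t = 0) :
    ∃ u : Pt k A k, pull ψ u = 1 ∧
      (∀ a ∈ D, (cj u (toConv (q : A →ₐ[k] B))).ofConv a = q a) ∧
      (cj u (toConv (q : A →ₐ[k] B))).ofConv L.x' = q L.x' + t • (1 - h) := by
  classical
  have hψh : ψ h ∈ D := hBD ⟨h, rfl⟩
  let e := aevalTower ((Ideal.Quotient.mkₐ k L.I).comp (ψ : B →ₐ[k] A)) (Ideal.Quotient.mk L.I L.x')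
  let D' := D ⊔ Algebra.adjoin k {L.x'}
  have hle : D ≤ D' := le_sup_left
  have hxD : L.x' ∈ D' := (le_sup_right : _ ≤ D') (Algebra.subset_adjoin rfl)
  have hD' : SGA3.IsHopfSubalgebra k A D' := isHopfSubalgebra_sup hD hψh hz
  have hD'le : D' ≤ e.range.comap (Ideal.Quotient.mkₐ k L.I) := by
    refine sup_le (fun a ha => ⟨C (r₀ ⟨a, ha⟩), ?_⟩) (Algebra.adjoin_le ?_)
    · exact (aevalTower_C _ _ _).trans (L.mk_eq ⟨a, ha⟩).symm
    · rintro a rfl
      exact ⟨X, aevalTower_X _ _⟩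
  let g : ↥D' →ₐ[k] ↥e.range := ((Ideal.Quotient.mkₐ k L.I).comp D'.val).codRestrict e.range fun a => hD'le a.2
  let ev : B[X] →ₐ[k] k := (Polynomial.aeval t).comp (Polynomial.mapAlgHom (Bialgebra.counitAlgHom k B))
  let θ : ↥e.range →ₐ[k] k := (Ideal.Quotient.liftₐ (RingHom.ker e) ev (fun F hF => ht F hF)).comp
    (Ideal.quotientKerEquivRange e).symm.toAlgHom
  have hθ : ∀ F, θ (e.rangeRestrict F) = ev F := fun F => by
    have : (Ideal.quotientKerEquivRange e).symm (e.rangeRestrict F) = Ideal.Quotient.mk _ F := by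
      rw [AlgEquiv.symm_apply_eq]
      rfl
    simp only [θ, AlgHom.comp_apply, AlgEquiv.coe_toAlgHom]
    rw [this]
    rfl
  obtain ⟨u₀, hu₀⟩ := HopfPts.exists_extend hD' (θ.comp g)
  let u : Pt k A k := toConv u₀
  have huD : ∀ a ∈ D, u.ofConv a = Coalgebra.counit (R := k) a := fun a ha => by
    refine (hu₀ ⟨a, hle ha⟩).trans ?_
    show θ (g ⟨a, hle ha⟩) = _
    rw [show g ⟨a, hle ha⟩ = e.rangeRestrict (C (r₀ ⟨a, ha⟩)) from Subtype.ext
      ((L.mk_eq ⟨a, ha⟩).trans (aevalTower_C ((Ideal.Quotient.mkₐ k L.I).comp (ψ : B →ₐ[k] A))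
        (Ideal.Quotient.mk L.I L.x') (r₀ ⟨a, ha⟩)).symm), hθ]
    simp only [ev, AlgHom.comp_apply, Polynomial.coe_mapAlgHom, map_C, aeval_C]
    show Coalgebra.counit (R := k) (r₀ ⟨a, ha⟩) = _
    rw [← hqD ⟨a, ha⟩, CoalgHomClass.counit_comp_apply]
  have hux : u.ofConv L.x' = t := by
    refine (hu₀ ⟨L.x', hxD⟩).trans ?_
    show θ (g ⟨L.x', hxD⟩) = t
    rw [show g ⟨L.x', hxD⟩ = e.rangeRestrict X from Subtype.ext (aevalTower_X _ _).symm, hθ]
    simp [ev]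
  have hu : pull ψ u = 1 := WithConv.ext (AlgHom.ext fun b =>
    (huD _ (hBD ⟨b, rfl⟩)).trans (CoalgHomClass.counit_comp_apply ψ b))
  refine ⟨u, hu, ?_⟩
  set Q : Pt k A B := toConv (q : A →ₐ[k] B)
  set U : Pt k A B := cst u B
  have hU : ∀ a ∈ D, U.ofConv a = (1 : Pt k A B).ofConv a := fun a ha => congrArg (algebraMap k B) (huD a ha)
  have hUi : ∀ a ∈ D, U⁻¹.ofConv a = (1 : Pt k A B).ofConv a := fun a ha => by
    have h1 := mul_congr_on hD (U := U⁻¹) (U' := U⁻¹) (fun _ _ => rfl) hU a ha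
    rw [inv_mul_cancel, mul_one] at h1
    exact h1.symm
  have hUQ : ∀ a ∈ D, (U * Q).ofConv a = Q.ofConv a := fun a ha => by
    have h1 := mul_congr_on hD (V := Q) (V' := Q) hU (fun _ _ => rfl) a ha
    rwa [one_mul] at h1
  have h1H : (1 : Pt k A B).ofConv (ψ h) = 1 := by
    rw [one_apply, CoalgHomClass.counit_comp_apply, hh.counit_eq_one, map_one]
  have h1x : (1 : Pt k A B).ofConv L.x' = 0 := by rw [one_apply, hx0, map_zero]
  have hUH : U.ofConv (ψ h) = 1 := cst_apply_ψ hu hh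
  have hQH : Q.ofConv (ψ h) = h := DFunLike.congr_fun hq h
  have hUx : U.ofConv L.x' = algebraMap k B t := congrArg (algebraMap k B) hux
  have hUix : U⁻¹.ofConv L.x' = - algebraMap k B t := by
    have h1 := mul_apply_sub hz (U := U) (U' := 1) (V := U⁻¹) (V' := 1) hU hUi
    rw [mul_inv_cancel, mul_one, sub_self, hUx, h1x, hUH, h1H] at h1
    linear_combination -h1
  refine ⟨fun a ha => ?_, ?_⟩
  · have h1 := mul_congr_on hD hUQ hUi a ha
    rw [mul_one] at h1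
    exact h1
  · have e1 := mul_apply_sub hz (U := U) (U' := 1) (V := Q) (V' := Q) hU (fun _ _ => rfl)
    have e2 := mul_apply_sub hz (U := U * Q) (U' := Q) (V := U⁻¹) (V' := 1) hUQ hUi
    rw [one_mul, hUx, h1x, hUH, h1H] at e1
    rw [mul_one, hUQ _ hψh, hQH, hUix, h1x] at e2
    show (U * Q * U⁻¹).ofConv L.x' = Q.ofConv L.x' + t • (1 - h)
    rw [Algebra.smul_def]
    linear_combination e2 + e1

theorem smul_one_sub_inj [Nontrivial B] (h1 : h ≠ 1) {c c' : k} (e : c • (1 - h) = c' • (1 - h)) : c = c' :=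
  smul_left_injective k (sub_ne_zero.2 (Ne.symm h1)) e

variable (ψ) in
theorem conj_step [IsAlgClosed k] [Algebra.FiniteType k A] (hB : HopfRep.IsDiagonalizable k B)
    (hsm : _root_.IsReduced B ∨ _root_.IsReduced (A ⧸ KerHopf.kerIdeal ψ))
    (hD : SGA3.IsHopfSubalgebra k A D) (hBD : (ψ : B →ₐ[k] A).range ≤ D) (x : A) (hh : IsGroupLikeElem k h)
    (hx : Coalgebra.comul (R := k) x - x ⊗ₜ[k] (1 : A) - ψ h ⊗ₜ[k] x ∈ (HopfSub.ι₂ D).range)
    (r₁ r₂ : A →ₐc[k] B) (h₁ : r₁.comp ψ = BialgHom.id k B) (h₂ : r₂.comp ψ = BialgHom.id k B)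
    (heq : ∀ a ∈ D, r₂ a = r₁ a) :
    ∃ u : Pt k A k, pull ψ u = 1 ∧
      (∀ a ∈ D, r₂ a = (cj u (toConv (r₁ : A →ₐ[k] B))).ofConv a) ∧
      r₂ x = (cj u (toConv (r₁ : A →ₐ[k] B))).ofConv x := by
  classical
  haveI : Nontrivial B := (Bialgebra.counitAlgHom k B).toRingHom.domain_nontrivial
  have hψh : ψ h ∈ D := hBD ⟨h, rfl⟩
  have hret := isRetr_restrict (D := D) ψ r₁ h₁
  set r₀ : ↥D →ₐ[k] B := (r₁ : A →ₐ[k] B).comp D.val with hr₀
  have h1D : ∀ a : ↥D, r₁ (a : A) = r₀ a := fun a => rfl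
  have h2D : ∀ a : ↥D, r₂ (a : A) = r₀ a := fun a => heq a a.2
  obtain ⟨L⟩ := nonempty_layer hB ψ hD hBD r₀ hret x hh hx
  have hz := L.skew_mem hD hBD hx
  obtain ⟨hk₁, hx0, c₁, hc₁⟩ := L.exists_value hB hh r₁ h₁ h1D
  obtain ⟨hk₂, -, c₂, hc₂⟩ := L.exists_value hB hh r₂ h₂ h2D
  have finish : ∀ u : Pt k A k, pull ψ u = 1 →
      (∀ a ∈ D, (cj u (toConv (r₁ : A →ₐ[k] B))).ofConv a = r₁ a) →
      (cj u (toConv (r₁ : A →ₐ[k] B))).ofConv L.x' = r₂ L.x' →
      ∃ u : Pt k A k, pull ψ u = 1 ∧ (∀ a ∈ D, r₂ a = (cj u (toConv (r₁ : A →ₐ[k] B))).ofConv a) ∧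
        r₂ x = (cj u (toConv (r₁ : A →ₐ[k] B))).ofConv x := by
    intro u hu hD' hx'
    refine ⟨u, hu, fun a ha => (heq a ha).trans (hD' a ha).symm, ?_⟩
    have hv : ψ L.v ∈ D := hBD ⟨_, rfl⟩
    rw [L.eq, map_add, map_add, hD' _ hv, heq _ hv] at hx'
    exact (add_right_cancel hx').symm
  by_cases h1 : h = 1
  · refine finish 1 (map_one _) (fun a _ => by rw [cj_one]; rfl) ?_
    rw [cj_one]
    show r₁ L.x' = _
    rw [hc₁, hc₂, h1, sub_self, smul_zero, smul_zero]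
  let e := aevalTower ((Ideal.Quotient.mkₐ k L.I).comp (ψ : B →ₐ[k] A)) (Ideal.Quotient.mk L.I L.x')
  by_cases hne : ∃ F, e F = 0 ∧ F ≠ 0
  swap
  · obtain ⟨u, hu, huD, hux⟩ := exists_shift hD hBD hh L hx0 hz r₁ h₁ h1D (c₂ - c₁) (fun F hF => by
      rw [of_not_not fun hF0 => hne ⟨F, hF, hF0⟩, Polynomial.map_zero, eval_zero])
    refine finish u hu huD ?_
    rw [hux, hc₁, hc₂, ← add_smul, add_sub_cancel]
  obtain ⟨R⟩ := nonempty_rel hB L.ΔQ _ L.injective L.comul_j _ hh L.comul_x hne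
  have hroot : ∀ t : k, R.P₀.eval t = 0 → ∀ F : B[X], e F = 0 →
      (F.map (Bialgebra.counitAlgHom k B).toRingHom).eval t = 0 := fun t ht F hF => by
    obtain ⟨G, rfl⟩ := R.dvd F hF
    rw [Polynomial.map_mul, R.map_counit, eval_mul, ht, zero_mul]
  have hadd : ∀ a b : k, R.P₀.eval (a + b) = R.P₀.eval a + R.P₀.eval b := fun a b => by
    simpa [Polynomial.coe_aeval_eq_eval] using R.aeval_add a b
  have hshift : ∀ (q : A →ₐc[k] B), q.comp ψ = BialgHom.id k B → (∀ a : ↥D, q (a : A) = r₀ a) →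
      ∀ c : k, q L.x' = c • (1 - h) → R.P₀.eval c = R.P₀.eval c₂ →
      ∃ u : Pt k A k, pull ψ u = 1 ∧ (∀ a ∈ D, (cj u (toConv (q : A →ₐ[k] B))).ofConv a = q a) ∧
        (cj u (toConv (q : A →ₐ[k] B))).ofConv L.x' = r₂ L.x' := by
    intro q hq hqD c hc hP
    obtain ⟨u, hu, huD, hux⟩ := exists_shift hD hBD hh L hx0 hz q hq hqD (c₂ - c) (hroot _ (by
      have := hadd (c₂ - c) c
      rw [sub_add_cancel, hP] at this
      exact right_eq_add.mp this))
    exact ⟨u, hu, huD, by rw [hux, hc, hc₂, ← add_smul, add_sub_cancel]⟩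
  by_cases hn : h ^ R.n = 1
  swap
  · have hval : ∀ c : k, R.P.eval (c • (1 - h)) = 0 → R.P₀.eval c = -R.d := fun c hc => by
      rw [R.eval_smul, smul_eq_zero] at hc
      exact eq_neg_of_add_eq_zero_left (hc.resolve_right (sub_ne_zero.2 (Ne.symm hn)))
    obtain ⟨u, hu, huD, hux⟩ := hshift r₁ h₁ h1D c₁ hc₁ (by
      rw [hval c₁ (hc₁ ▸ hk₁ R.P R.map_eq), hval c₂ (hc₂ ▸ hk₂ R.P R.map_eq)])
    exact finish u hu huD hux
  rcases hsm with hBred | hUred
  · haveI := hBred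
    refine absurd ?_ h1
    have hlead : R.P₀.coeff R.n ≠ 0 := by
      rw [← R.natDegree₀, R.monic₀.coeff_natDegree]
      exact one_ne_zero
    have h2 := add_pow_of_choose (k := k) R.pos (R.coeff_ne _ R.pos hlead).2 (1 - h) h
    rw [sub_add_cancel, one_pow, hn, right_eq_add] at h2
    exact (sub_eq_zero.1 (IsNilpotent.eq_zero ⟨R.n, h2⟩)).symm
  haveI := hUred
  obtain ⟨φ, hφ⟩ := exists_integral_of_linRed (linRed_of_isDiagonalizable hB)
  have hφh : φ h = 0 := by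
    have h2 := hφ.slice_comul h
    rw [hh.comul_eq_tmul_self, slice_tmul] at h2
    by_contra h3
    exact h1 (smul_right_injective B h3 h2)
  obtain ⟨t, ht⟩ := hz
  change HopfSub.ι₂ D t = _ at ht
  set T₁ : A →ₗ[k] k := φ ∘ₗ (r₁ : A →ₐ[k] B).toLinearMap with hT₁
  let y : A := slice T₁ (HopfSub.ι₂ D t) - sliceL T₁ (HopfSub.ι₂ D t)
  have hy : y ∈ D := by
    refine sub_mem ?_ ?_ <;> clear ht <;> induction t using TensorProduct.induction_on with
    | zero => simp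
    | tmul p q =>
      simp only [HopfSub.ι₂, Algebra.TensorProduct.map_tmul, slice_tmul, sliceL_tmul]
      exact Subalgebra.smul_mem D (Subtype.prop _) _
    | add p q hp hq => simp only [map_add]; exact add_mem hp hq
  have hz : Coalgebra.comul (R := k) L.x' - L.x' ⊗ₜ[k] (1 : A) - ψ h ⊗ₜ[k] L.x' ∈ (HopfSub.ι₂ D).range := ⟨t, ht⟩
  obtain ⟨g, hg, hval⟩ := exists_center ψ r₁ hB h₁ hD hBD hh h1 (fun a => rfl) L hz R hn y hy
  -- the shift produced by a centralising point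
  have hdelta : ∀ u : Pt k A k, pull ψ u = 1 →
      (∀ a ∈ D, (cj u (toConv (r₁ : A →ₐ[k] B))).ofConv a = r₁ a) →
      (cj u (toConv (r₁ : A →ₐ[k] B))).ofConv L.x' = r₁ L.x' + (u.ofConv L.x' + u.ofConv y) • (1 - h) := by
    intro u hu huD
    obtain ⟨r', hr', hr'u⟩ := exists_conj_retr ψ u hu r₁ h₁
    have hr'D : ∀ a : ↥D, r' (a : A) = r₀ a := fun a =>
      (DFunLike.congr_fun (congrArg WithConv.ofConv hr'u) (a : A)).trans (huD a a.2)
    obtain ⟨-, -, c', hc'⟩ := L.exists_value hB hh r' hr' hr'D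
    rw [← hr'u]
    show r' L.x' = _
    rw [hc', hc₁, ← add_smul]
    congr 1
    have hUR : cst u B * toConv (r₁ : A →ₐ[k] B) = toConv (r' : A →ₐ[k] B) * cst u B := by
      rw [hr'u, cj, inv_mul_cancel_right]
    have h4 := congrArg (fun P : Pt k A B => φ (P.ofConv L.x')) hUR
    simp only [mul_apply_split ht] at h4
    have e1 : ∀ s : ↥D ⊗[k] ↥D, φ (Algebra.TensorProduct.lift (cst u B).ofConv (toConv (r₁ : A →ₐ[k] B)).ofConv (fun _ _ => Commute.all _ _)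
        (HopfSub.ι₂ D s)) = u.ofConv (slice T₁ (HopfSub.ι₂ D s)) := fun s => by
      induction s using TensorProduct.induction_on with
      | zero => simp
      | tmul p q =>
        simp only [HopfSub.ι₂, Algebra.TensorProduct.map_tmul, Algebra.TensorProduct.lift_tmul, slice_tmul, map_smul]
        show φ (algebraMap k B (u.ofConv (p : A)) * r₁ (q : A)) = φ (r₁ (q : A)) • u.ofConv (p : A)
        rw [← Algebra.smul_def, map_smul, smul_eq_mul, smul_eq_mul, mul_comm]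
      | add p q hp hq => simp only [map_add]; exact congrArg₂ (· + ·) hp hq
    have e2 : ∀ s : ↥D ⊗[k] ↥D, φ (Algebra.TensorProduct.lift (toConv (r' : A →ₐ[k] B)).ofConv (cst u B).ofConv (fun _ _ => Commute.all _ _)
        (HopfSub.ι₂ D s)) = u.ofConv (sliceL T₁ (HopfSub.ι₂ D s)) := fun s => by
      induction s using TensorProduct.induction_on with
      | zero => simp
      | tmul p q =>
        simp only [HopfSub.ι₂, Algebra.TensorProduct.map_tmul, Algebra.TensorProduct.lift_tmul, sliceL_tmul, map_smul]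
        show φ (r' (p : A) * algebraMap k B (u.ofConv (q : A))) = φ (r₁ (p : A)) • u.ofConv (q : A)
        rw [hr'D, mul_comm, ← Algebra.smul_def, map_smul, smul_eq_mul, smul_eq_mul, mul_comm]
        rfl
      | add p q hp hq => simp only [map_add]; exact congrArg₂ (· + ·) hp hq
    have eH : (toConv (r' : A →ₐ[k] B)).ofConv (ψ h) = h := DFunLike.congr_fun hr' h
    rw [map_add, map_add, map_add, map_add, e1, e2, cst_apply_ψ hu hh, eH, one_mul,
      show (cst u B).ofConv L.x' = algebraMap k B (u.ofConv L.x') from rfl,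
      show (toConv (r' : A →ₐ[k] B)).ofConv L.x' = r' L.x' from rfl,
      show (toConv (r₁ : A →ₐ[k] B)).ofConv L.x' = r₁ L.x' from rfl, hc', hc₁, mul_comm h,
      ← Algebra.smul_def, Algebra.algebraMap_eq_smul_one, map_smul, map_smul, map_smul, map_smul, map_sub,
      hφ.map_one, hφh] at h4
    simp only [smul_eq_mul] at h4
    simp only [y, map_sub]
    linear_combination -h4
  obtain ⟨e₁, he₁, he₂⟩ := exists_add_eq_of_cofinite hg (R.P₀.eval (c₂ - c₁))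
  obtain ⟨u₁, hu₁, hu₁D, hd₁⟩ := hval e₁ he₁
  obtain ⟨u₂, hu₂, hu₂D, hd₂⟩ := hval _ he₂
  rw [Polynomial.coe_aeval_eq_eval] at hd₁ hd₂
  have hu₂D' : ∀ a ∈ D, (cj u₂ (toConv (r₁ : A →ₐ[k] B))).ofConv a = (toConv (r₁ : A →ₐ[k] B)).ofConv a := hu₂D
  set u₁₂ := u₁ * u₂
  have hu : pull ψ u₁₂ = 1 := by rw [map_mul, hu₁, hu₂, one_mul]
  have huD : ∀ a ∈ D, (cj u₁₂ (toConv (r₁ : A →ₐ[k] B))).ofConv a = r₁ a := fun a ha => by
    rw [cj_mul, cj_congr_on hD u₁ hu₂D' a ha]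
    exact hu₁D a ha
  obtain ⟨c', hc'eq, hux⟩ : ∃ c', c' = c₁ + (u₁.ofConv L.x' + u₁.ofConv y) + (u₂.ofConv L.x' + u₂.ofConv y) ∧
      (cj u₁₂ (toConv (r₁ : A →ₐ[k] B))).ofConv L.x' = c' • (1 - h) := by
    refine ⟨_, rfl, ?_⟩
    have h3 := cj_apply_sub hD hh hψh hz hu₁ _ _ hu₂D'
    rw [← cj_mul, hdelta u₁ hu₁ hu₁D, hdelta u₂ hu₂ hu₂D,
      show (toConv (r₁ : A →ₐ[k] B)).ofConv L.x' = r₁ L.x' from rfl, hc₁] at h3
    rw [add_smul, add_smul]
    linear_combination h3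
  obtain ⟨r', hr', hr'u⟩ := exists_conj_retr ψ u₁₂ hu r₁ h₁
  have hr'D : ∀ a : ↥D, r' (a : A) = r₀ a := fun a =>
    (DFunLike.congr_fun (congrArg WithConv.ofConv hr'u) (a : A)).trans (huD a a.2)
  obtain ⟨v, hv, hvD, hvx⟩ := hshift r' hr' hr'D c'
    ((DFunLike.congr_fun (congrArg WithConv.ofConv hr'u) L.x').trans hux)
    (by
      have := hadd (c₂ - c₁) c₁
      rw [sub_add_cancel] at this
      rw [hc'eq, hadd, hadd, hd₁, hd₂, this]
      ring)
  refine finish (v * u₁₂) (by rw [map_mul, hv, hu, one_mul]) (fun a ha => ?_) ?_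
  · rw [cj_mul, ← hr'u, hvD a ha]
    exact hr'D ⟨a, ha⟩
  · rw [cj_mul, ← hr'u, hvx]

end Groth.Agent.DiagExt19
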