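import Groth.Agent.DiagExt19.Conj
import Mathlib.RingTheory.Smooth.Basic
import Mathlib.RingTheory.Spectrum.Prime.Chevalley
import Mathlib.RingTheory.Ideal.MinimalPrime.Localization
import Mathlib.RingTheory.Flat.TorsionFree
import Mathlib.RingTheory.Jacobson.Ring
import Mathlib.FieldTheory.IsAlgClosed.Basic

/-!
# Invariant curves in a smooth unipotent kernel and the rational points on them
-/

set_option autoImplicit false
set_option linter.style.haveILetI false
set_option synthInstance.maxHeartbeats 400000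

universe u

noncomputable section

open TensorProduct WithConv Polynomial
open scoped Groth.Agent.DynLib

namespace Groth.Agent.DiagExt19

open Groth.Agent.Comod Groth.Agent.DynLib

variable {k : Type u} [Field k]

/-- generic openness: rational values of a transcendental element -/
theorem exists_values [IsAlgClosed k] {Q : Type u} [CommRing Q] [Algebra k Q] [Algebra.FiniteType k Q] (a : Q)
    (ha : Function.Injective (Polynomial.aeval (R := k) a)) :
    ∃ g : k[X], g ≠ 0 ∧ ∀ e, g.eval e ≠ 0 → ∃ y : Q →ₐ[k] k, y a = e := by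
  classical
  let f : k[X] →ₐ[k] Q := Polynomial.aeval a
  obtain ⟨p, hp, hpc⟩ := Ideal.exists_comap_eq_of_mem_minimalPrimes_of_injective (f := f.toRingHom) ha (⊥ : Ideal k[X])
    (by rw [IsDomain.minimalPrimes_eq_singleton_bot]; rfl)
  haveI := hp
  let π := Ideal.Quotient.mkₐ k p
  letI alg : Algebra k[X] (Q ⧸ p) := (π.comp f).toRingHom.toAlgebra
  haveI : IsScalarTower k k[X] (Q ⧸ p) := IsScalarTower.of_algebraMap_eq fun c => ((π.comp f).commutes c).symm
  haveI : Algebra.FiniteType k (Q ⧸ p) := Algebra.FiniteType.of_surjective π Ideal.Quotient.mk_surjective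
  haveI : Algebra.FiniteType k[X] (Q ⧸ p) := Algebra.FiniteType.of_restrictScalars_finiteType k k[X] (Q ⧸ p)
  haveI : Algebra.FinitePresentation k[X] (Q ⧸ p) := Algebra.FinitePresentation.of_finiteType.mp inferInstance
  have hinj : Function.Injective (algebraMap k[X] (Q ⧸ p)) := by
    rw [injective_iff_map_eq_zero]
    intro P hP
    have : P ∈ p.comap f.toRingHom := Ideal.mem_comap.2 (Ideal.Quotient.eq_zero_iff_mem.1 (show Ideal.Quotient.mk p (f P) = 0 from hP))
    rwa [hpc, Ideal.mem_bot] at this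
  haveI : FaithfulSMul k[X] (Q ⧸ p) := (faithfulSMul_iff_algebraMap_injective _ _).2 hinj
  haveI : Module.Flat k[X] (Q ⧸ p) := by
    rw [IsDedekindDomain.flat_iff_torsion_eq_bot, ← Submodule.isTorsionFree_iff_torsion_eq_bot]
    infer_instance
  have hopen := PrimeSpectrum.isOpenMap_comap_of_hasGoingDown_of_finitePresentation (R := k[X]) (S := Q ⧸ p)
  obtain ⟨_, ⟨_, ⟨g, rfl⟩, rfl⟩, hmem, hsub⟩ := PrimeSpectrum.isBasis_basic_opens.exists_subset_of_mem_open
    (a := PrimeSpectrum.comap (algebraMap k[X] (Q ⧸ p)) ⟨⊥, Ideal.isPrime_bot⟩) (Set.mem_image_of_mem _ (Set.mem_univ _)) (hopen _ isOpen_univ)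
  refine ⟨g, fun h0 => hmem (by rw [h0]; exact zero_mem _), fun e he => ?_⟩
  let me : PrimeSpectrum k[X] := ⟨RingHom.ker (Polynomial.evalRingHom e), RingHom.ker_isPrime _⟩
  obtain ⟨P, -, hP⟩ := hsub (show me ∈ PrimeSpectrum.basicOpen g from fun h => he h)
  obtain ⟨m, hm, hPm⟩ := P.asIdeal.exists_le_maximal P.2.ne_top
  letI := Ideal.Quotient.field m
  haveI : Module.Finite k ((Q ⧸ p) ⧸ m) := finite_of_finite_type_of_isJacobsonRing k _
  let E : k ≃ₐ[k] ((Q ⧸ p) ⧸ m) :=
    AlgEquiv.ofBijective (Algebra.ofId k _) IsAlgClosed.algebraMap_bijective_of_isIntegral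
  refine ⟨E.symm.toAlgHom.comp ((Ideal.Quotient.mkₐ k m).comp π), ?_⟩
  have h1 : (X - C e : k[X]) ∈ (PrimeSpectrum.comap (algebraMap k[X] (Q ⧸ p)) P).asIdeal := by
    rw [hP]
    show Polynomial.evalRingHom e (X - C e) = 0
    simp
  have h2 : Ideal.Quotient.mk m (π a - algebraMap k _ e) = 0 := by
    refine Ideal.Quotient.eq_zero_iff_mem.2 (hPm ?_)
    rw [show π a - algebraMap k _ e = π (f (X - C e)) by simp [f]]
    exact h1
  rw [map_sub, sub_eq_zero] at h2
  show E.symm (Ideal.Quotient.mk m (π a)) = e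
  rw [h2, AlgEquiv.symm_apply_eq]
  rfl

/-- truncated polynomials -/
abbrev Trunc (k : Type u) [Field k] (N : ℕ) : Type u := k[X] ⧸ Ideal.span {(X : k[X]) ^ N}

/-- the next truncation onto the previous one -/
def down (N : ℕ) : Trunc k (N + 1) →ₐ[k] Trunc k N :=
  Ideal.Quotient.factorₐ k (Ideal.span_singleton_le_span_singleton.2 (pow_dvd_pow X N.le_succ))

theorem down_surjective (N : ℕ) : Function.Surjective (down (k := k) N) := fun y => by
  obtain ⟨y, rfl⟩ := Ideal.Quotient.mk_surjective y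
  exact ⟨Ideal.Quotient.mk _ y, rfl⟩

theorem exists_mul_of_down_eq_zero {N : ℕ} {z : Trunc k (N + 1)} (hz : down N z = 0) :
    ∃ w, z = Ideal.Quotient.mk _ ((X : k[X]) ^ N) * w := by
  obtain ⟨z, rfl⟩ := Ideal.Quotient.mk_surjective z
  obtain ⟨w, rfl⟩ := Ideal.mem_span_singleton.1 (Ideal.Quotient.eq_zero_iff_mem.1 hz)
  exact ⟨Ideal.Quotient.mk _ w, map_mul _ _ _⟩

theorem sq_X_pow_eq_zero {N : ℕ} (hN : 1 ≤ N) :
    Ideal.Quotient.mk (Ideal.span {(X : k[X]) ^ (N + 1)}) ((X : k[X]) ^ N) *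
      Ideal.Quotient.mk (Ideal.span {(X : k[X]) ^ (N + 1)}) ((X : k[X]) ^ N) = 0 := by
  rw [← map_mul, Ideal.Quotient.eq_zero_iff_mem, Ideal.mem_span_singleton, ← pow_add]
  exact pow_dvd_pow X (by omega)

section Abstract

variable {D : Type u} [CommRing D] [HopfAlgebra k D] {B : Type u} [CommRing B] [HopfAlgebra k B]
  (ψ : B →ₐc[k] D) (r : D →ₐc[k] B)

/-- the retraction as a point with values in `C ⊗ B` -/
def rPt (C : Type u) [CommRing C] [Algebra k C] : Pt k D (C ⊗[k] B) :=
  mapPt Algebra.TensorProduct.includeRight (toConv (r : D →ₐ[k] B))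

/-- the conjugation coaction -/
def G : D →ₐ[k] D ⊗[k] B :=
  ((rPt r D)⁻¹ * mapPt Algebra.TensorProduct.includeLeft (toConv (AlgHom.id k D)) * rPt r D).ofConv

/-- invariant points -/
def Inv {C : Type u} [CommRing C] [Algebra k C] (Φ : D →ₐ[k] C) : Prop :=
  ∀ a, Algebra.TensorProduct.map Φ (AlgHom.id k B) (G r a) = Φ a ⊗ₜ[k] (1 : B)

theorem map_G {C : Type u} [CommRing C] [Algebra k C] (Φ : D →ₐ[k] C) :
    toConv ((Algebra.TensorProduct.map Φ (AlgHom.id k B)).comp (G r)) =
      (rPt r C)⁻¹ * mapPt Algebra.TensorProduct.includeLeft (toConv Φ) * rPt r C := by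
  have h : mapPt (Algebra.TensorProduct.map Φ (AlgHom.id k B))
      ((rPt r D)⁻¹ * mapPt Algebra.TensorProduct.includeLeft (toConv (AlgHom.id k D)) * rPt r D) =
      (rPt r C)⁻¹ * mapPt Algebra.TensorProduct.includeLeft (toConv Φ) * rPt r C := by
    have e1 : mapPt (Algebra.TensorProduct.map Φ (AlgHom.id k B)) (rPt r D) = rPt r C :=
      WithConv.ext (AlgHom.ext fun a => by simp [rPt, mapPt])
    have e2 : mapPt (Algebra.TensorProduct.map Φ (AlgHom.id k B))
        (mapPt Algebra.TensorProduct.includeLeft (toConv (AlgHom.id k D))) =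
        mapPt Algebra.TensorProduct.includeLeft (toConv Φ) :=
      WithConv.ext (AlgHom.ext fun a => by simp [mapPt])
    rw [map_mul, map_mul, map_inv, e1, e2]
  exact h

/-- coassociativity of the conjugation coaction -/
theorem map_G_G {C : Type u} [CommRing C] [Algebra k C] (Ψ : D →ₐ[k] C) :
    (Algebra.TensorProduct.map ((Algebra.TensorProduct.map Ψ (AlgHom.id k B)).comp (G r)) (AlgHom.id k B)).comp (G r) =
      ((Algebra.TensorProduct.assoc k k k C B B).symm.toAlgHom.comp
        (Algebra.TensorProduct.map (AlgHom.id k C) (Bialgebra.comulAlgHom k B))).comp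
        ((Algebra.TensorProduct.map Ψ (AlgHom.id k B)).comp (G r)) := by
  apply WithConv.toConv_injective
  set W := (Algebra.TensorProduct.map Ψ (AlgHom.id k B)).comp (G r)
  set J := (Algebra.TensorProduct.assoc k k k C B B).symm.toAlgHom.comp
    (Algebra.TensorProduct.map (AlgHom.id k C) (Bialgebra.comulAlgHom k B))
  let i2 : B →ₐ[k] (C ⊗[k] B) ⊗[k] B :=
    (Algebra.TensorProduct.includeLeft : C ⊗[k] B →ₐ[k] _).comp Algebra.TensorProduct.includeRight
  let i3 : B →ₐ[k] (C ⊗[k] B) ⊗[k] B := Algebra.TensorProduct.includeRight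
  let iC : C →ₐ[k] (C ⊗[k] B) ⊗[k] B :=
    (Algebra.TensorProduct.includeLeft : C ⊗[k] B →ₐ[k] _).comp Algebra.TensorProduct.includeLeft
  let R2 : Pt k D ((C ⊗[k] B) ⊗[k] B) := mapPt i2 (toConv (r : D →ₐ[k] B))
  let R3 : Pt k D ((C ⊗[k] B) ⊗[k] B) := mapPt i3 (toConv (r : D →ₐ[k] B))
  have hJR : mapPt J (rPt r C) = R2 * R3 := by
    have h1 : (toConv ((Bialgebra.comulAlgHom k B).comp (r : D →ₐ[k] B)) : Pt k D (B ⊗[k] B)) =
        mapPt Algebra.TensorProduct.includeLeft (toConv (r : D →ₐ[k] B)) *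
          mapPt Algebra.TensorProduct.includeRight (toConv (r : D →ₐ[k] B)) := by
      have h2 := congrArg (mapPt (Algebra.TensorProduct.map (r : D →ₐ[k] B) (r : D →ₐ[k] B)))
        (toConv_comul (k := k) (A := D))
      rw [map_mul] at h2
      refine Eq.trans ?_ (h2.trans ?_)
      · exact WithConv.ext (AlgHom.ext fun a => (CoalgHomClass.map_comp_comul_apply r a).symm)
      · congr 1 <;> exact WithConv.ext (AlgHom.ext fun a => by simp [mapPt])
    let j23 : B ⊗[k] B →ₐ[k] (C ⊗[k] B) ⊗[k] B := Algebra.TensorProduct.map Algebra.TensorProduct.includeRight (AlgHom.id k B)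
    have h3 : mapPt J (rPt r C) = mapPt j23 (toConv ((Bialgebra.comulAlgHom k B).comp (r : D →ₐ[k] B))) := by
      refine WithConv.ext (AlgHom.ext fun a => ?_)
      show (Algebra.TensorProduct.assoc k k k C B B).symm
        (Algebra.TensorProduct.map (AlgHom.id k C) (Bialgebra.comulAlgHom k B) ((1 : C) ⊗ₜ[k] r a)) =
          j23 (Coalgebra.comul (R := k) (r a))
      rw [Algebra.TensorProduct.map_tmul, AlgHom.id_apply, Bialgebra.comulAlgHom_apply]
      induction Coalgebra.comul (R := k) (r a) using TensorProduct.induction_on with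
      | zero => simp
      | tmul p q => rfl
      | add p q hp hq => simp only [TensorProduct.tmul_add, map_add, hp, hq]
    rw [h3, h1, map_mul]
    rfl
  have hJI : mapPt J (mapPt Algebra.TensorProduct.includeLeft (toConv Ψ)) = mapPt iC (toConv Ψ) :=
    WithConv.ext (AlgHom.ext fun a => by
      show (Algebra.TensorProduct.assoc k k k C B B).symm
        (Algebra.TensorProduct.map (AlgHom.id k C) (Bialgebra.comulAlgHom k B) (Ψ a ⊗ₜ[k] (1 : B))) = _
      rw [Algebra.TensorProduct.map_tmul, map_one]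
      rfl)
  rw [map_G, show (toConv (J.comp W) : Pt k D _) = mapPt J (toConv W) from rfl,
    show mapPt Algebra.TensorProduct.includeLeft (toConv W) =
      mapPt (Algebra.TensorProduct.includeLeft : C ⊗[k] B →ₐ[k] (C ⊗[k] B) ⊗[k] B) (toConv W) from rfl,
    map_G r Ψ, map_mul, map_mul, map_inv, map_mul, map_mul, map_inv, hJR, hJI]
  show R3⁻¹ * (R2⁻¹ * mapPt iC (toConv Ψ) * R2) * R3 = _
  simp only [mul_inv_rev, mul_assoc]

theorem G_map (hrψ : r.comp ψ = BialgHom.id k B) (hB : HopfRep.IsDiagonalizable k B) (b : B) :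
    G r (ψ b) = ψ b ⊗ₜ[k] (1 : B) := by
  refine span_induction_groupLike hB (p := fun b => G r (ψ b) = ψ b ⊗ₜ[k] (1 : B)) (by simp)
    (fun p q hp hq => by rw [map_add, map_add, hp, hq, TensorProduct.add_tmul])
    (fun c p hp => by rw [map_smul, map_smul, hp, TensorProduct.smul_tmul']) (fun g hg => ?_) b
  show ((rPt r D)⁻¹ * mapPt Algebra.TensorProduct.includeLeft (toConv (AlgHom.id k D)) * rPt r D).ofConv (ψ g) = _
  rw [mul_apply_groupLike (hg.map ψ), mul_apply_groupLike (hg.map ψ), inv_apply, KerHopf.map_antipode]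
  show ((1 : D) ⊗ₜ[k] r (ψ (HopfAlgebra.antipode k g))) * (ψ g ⊗ₜ[k] (1 : B)) * ((1 : D) ⊗ₜ[k] r (ψ g)) = _
  rw [show r (ψ (HopfAlgebra.antipode k g)) = HopfAlgebra.antipode k g from DFunLike.congr_fun hrψ _,
    show r (ψ g) = g from DFunLike.congr_fun hrψ _, Algebra.TensorProduct.tmul_mul_tmul,
    Algebra.TensorProduct.tmul_mul_tmul, one_mul, mul_one, mul_one, hg.antipode_mul_cancel]

theorem slice_tmul_mul {C : Type u} [CommRing C] [Algebra k C] (φ : B →ₗ[k] k) (c : C) (z : C ⊗[k] B) :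
    slice φ ((c ⊗ₜ[k] (1 : B)) * z) = c * slice φ z := by
  induction z using TensorProduct.induction_on with
  | zero => simp
  | tmul c' b => simp
  | add p q hp hq => simp only [mul_add, map_add, hp, hq]

theorem slice_mul_of_sq_zero {C : Type u} [CommRing C] [Algebra k C] {φ : B →ₗ[k] k} (h1 : φ 1 = 1) (e a b : C)
    (ee : e * e = 0) (z w : C ⊗[k] B) :
    slice φ ((a ⊗ₜ[k] (1 : B) + (e ⊗ₜ[k] (1 : B)) * z) * (b ⊗ₜ[k] (1 : B) + (e ⊗ₜ[k] (1 : B)) * w)) =
      (a + e * slice φ z) * (b + e * slice φ w) := by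
  have hee : (e ⊗ₜ[k] (1 : B)) * (e ⊗ₜ[k] (1 : B)) = 0 := by
    rw [Algebra.TensorProduct.tmul_mul_tmul, ee, TensorProduct.zero_tmul]
  have hx : (a ⊗ₜ[k] (1 : B) + (e ⊗ₜ[k] (1 : B)) * z) * (b ⊗ₜ[k] (1 : B) + (e ⊗ₜ[k] (1 : B)) * w) =
      (a * b) ⊗ₜ[k] (1 : B) + ((a * e) ⊗ₜ[k] (1 : B)) * w + ((b * e) ⊗ₜ[k] (1 : B)) * z := by
    rw [show (a * b) ⊗ₜ[k] (1 : B) = (a ⊗ₜ[k] (1 : B)) * (b ⊗ₜ[k] (1 : B)) by simp,
      show (a * e) ⊗ₜ[k] (1 : B) = (a ⊗ₜ[k] (1 : B)) * (e ⊗ₜ[k] (1 : B)) by simp,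
      show (b * e) ⊗ₜ[k] (1 : B) = (b ⊗ₜ[k] (1 : B)) * (e ⊗ₜ[k] (1 : B)) by simp]
    linear_combination (z * w) * hee
  rw [hx, map_add, map_add, slice_tmul, h1, one_smul, slice_tmul_mul, slice_tmul_mul]
  linear_combination -(slice φ z * slice φ w) * ee

theorem exists_eq_tmul_mul {C C' : Type u} [CommRing C] [Algebra k C] [CommRing C'] [Algebra k C'] (f : C →ₐ[k] C')
    (hf : Function.Surjective f) (e : C) (he : ∀ c, f c = 0 → ∃ w, c = e * w) (y : C ⊗[k] B)
    (hy : Algebra.TensorProduct.map f (AlgHom.id k B) y = 0) : ∃ z, y = (e ⊗ₜ[k] (1 : B)) * z := by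
  have hm : ∀ z, f.toLinearMap.rTensor B z = Algebra.TensorProduct.map f (AlgHom.id k B) z := fun z => by
    induction z using TensorProduct.induction_on with
    | zero => simp
    | tmul p q => rfl
    | add p q hp hq => simp only [map_add, hp, hq]
  obtain ⟨y', rfl⟩ := (rTensor_exact B (LinearMap.exact_subtype_ker_map f.toLinearMap) hf _).1 ((hm y).trans hy)
  clear hy
  induction y' using TensorProduct.induction_on with
  | zero => exact ⟨0, by simp⟩
  | tmul p q =>
    obtain ⟨w, hw⟩ := he p p.2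
    exact ⟨w ⊗ₜ[k] q, by simp [hw]⟩
  | add p q hp hq =>
    obtain ⟨p', hp'⟩ := hp
    obtain ⟨q', hq'⟩ := hq
    exact ⟨p' + q', by rw [map_add, hp', hq', mul_add]⟩

variable {φ : B →ₗ[k] k} (hφ : Comod.IsIntegral k φ)

/-- kills the image of `B` -/
def Kills {C : Type u} [CommRing C] [Algebra k C] (Φ : D →ₐ[k] C) : Prop :=
  ∀ b, Φ (ψ b) = algebraMap k C (Coalgebra.counit (R := k) b)

include hφ in
/-- lifting an invariant curve by one step -/
theorem exists_avg (hrψ : r.comp ψ = BialgHom.id k B) (hB : HopfRep.IsDiagonalizable k B) {N : ℕ} (hN : 1 ≤ N)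
    (Φ : D →ₐ[k] Trunc k N) (hinv : Inv r Φ) (Ψ : D →ₐ[k] Trunc k (N + 1)) (hΨ : (down N).comp Ψ = Φ)
    (hkill : Kills ψ Ψ) :
    ∃ Φ' : D →ₐ[k] Trunc k (N + 1), Inv r Φ' ∧ Kills ψ Φ' ∧ (down N).comp Φ' = Φ ∧
      ∀ a, Φ' a = slice φ (Algebra.TensorProduct.map Ψ (AlgHom.id k B) (G r a)) := by
  set W := (Algebra.TensorProduct.map Ψ (AlgHom.id k B)).comp (G r) with hW
  let e : Trunc k (N + 1) := Ideal.Quotient.mk _ ((X : k[X]) ^ N)
  have hw : ∀ a, ∃ z, W a = Ψ a ⊗ₜ[k] (1 : B) + (e ⊗ₜ[k] (1 : B)) * z := fun a => by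
    obtain ⟨z, hz⟩ := exists_eq_tmul_mul (down (k := k) N) (down_surjective N) e
      (fun c hc => exists_mul_of_down_eq_zero hc) (W a - Ψ a ⊗ₜ[k] (1 : B)) (by
        rw [map_sub, Algebra.TensorProduct.map_tmul, map_one, show (down (k := k) N) (Ψ a) = Φ a from
          DFunLike.congr_fun hΨ a, sub_eq_zero, ← hinv a, ← hΨ]
        rw [hW, AlgHom.comp_apply]
        induction G r a using TensorProduct.induction_on with
        | zero => simp
        | tmul p q => simp
        | add p q hp hq => simp only [map_add, hp, hq])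
    exact ⟨z, by rw [← hz, add_sub_cancel]⟩
  choose z hz using hw
  have hsl : ∀ a, slice φ (W a) = Ψ a + e * slice φ (z a) := fun a => by
    rw [hz, map_add, slice_tmul, hφ.map_one, one_smul, slice_tmul_mul]
  have hmul : ∀ a b, slice φ (W (a * b)) = slice φ (W a) * slice φ (W b) := fun a b => by
    rw [hsl a, hsl b, map_mul W, hz a, hz b]
    exact slice_mul_of_sq_zero hφ.map_one e _ _ (sq_X_pow_eq_zero hN) _ _
  let Φ' : D →ₐ[k] Trunc k (N + 1) := AlgHom.ofLinearMap (slice φ ∘ₗ W.toLinearMap)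
    (by show slice φ (W 1) = 1
        rw [map_one, Algebra.TensorProduct.one_def, slice_tmul, hφ.map_one, one_smul])
    hmul
  have hΦ' : ∀ a, Φ' a = slice φ (W a) := fun a => rfl
  refine ⟨Φ', fun a => ?_, fun b => ?_, AlgHom.ext fun a => ?_, fun a => rfl⟩
  · have h1 : ∀ y, Algebra.TensorProduct.map Φ' (AlgHom.id k B) y =
        (slice φ).rTensor B (Algebra.TensorProduct.map W (AlgHom.id k B) y) := fun y => by
      induction y using TensorProduct.induction_on with
      | zero => simp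
      | tmul p q => rfl
      | add p q hp hq => simp only [map_add, hp, hq]
    rw [h1, show Algebra.TensorProduct.map W (AlgHom.id k B) (G r a) = _ from DFunLike.congr_fun (map_G_G r Ψ) a,
      hΦ', AlgHom.comp_apply, ← hW]
    generalize W a = y
    induction y using TensorProduct.induction_on with
    | zero => simp
    | tmul c b =>
      show (slice φ).rTensor B ((Algebra.TensorProduct.assoc k k k _ B B).symm (c ⊗ₜ[k] Coalgebra.comul (R := k) b)) = _
      rw [slice_tmul, TensorProduct.smul_tmul, ← hφ.sliceL_comul]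
      induction Coalgebra.comul (R := k) b using TensorProduct.induction_on with
      | zero => simp
      | tmul p q => simp [TensorProduct.smul_tmul]
      | add p q hp hq => simp only [TensorProduct.tmul_add, map_add, hp, hq]
    | add p q hp hq => simp only [map_add, TensorProduct.add_tmul, hp, hq]
  · rw [hΦ', hW, AlgHom.comp_apply, G_map ψ r hrψ hB, Algebra.TensorProduct.map_tmul, map_one, slice_tmul, hφ.map_one,
      one_smul, hkill b]
  · show down N (Φ' a) = Φ a
    rw [hΦ', hsl, map_add, map_mul, show (down (k := k) N) (Ψ a) = Φ a from DFunLike.congr_fun hΨ a,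
      show down N e = 0 from Ideal.Quotient.eq_zero_iff_mem.2 (Ideal.mem_span_singleton_self _), zero_mul, add_zero]

/-- Rational points of the centraliser taking almost all values at `a`, from a tangent vector. -/
theorem exists_invariant_values [IsAlgClosed k] [Algebra.FiniteType k D] (hrψ : r.comp ψ = BialgHom.id k B)
    (hB : HopfRep.IsDiagonalizable k B) (hφ : Comod.IsIntegral k φ) [Algebra.FormallySmooth k (D ⧸ KerHopf.kerIdeal ψ)]
    (Ψ : D →ₐ[k] Trunc k 2) (hkill : Kills ψ Ψ) (hred : ∀ c, down 1 (Ψ c) = algebraMap k _ (Coalgebra.counit (R := k) c))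
    (a : D) (b₀ b₁ : k) (hb₁ : b₁ ≠ 0)
    (ha : slice φ (Algebra.TensorProduct.map Ψ (AlgHom.id k B) (G r a)) =
      Ideal.Quotient.mk _ (C b₀ + C b₁ * X)) :
    ∃ g : k[X], g ≠ 0 ∧ ∀ e, g.eval e ≠ 0 → ∃ y : D →ₐ[k] k, Kills ψ y ∧ Inv r y ∧ y a = e := by
  classical
  -- the invariant curves
  have hcurve : ∀ N, ∃ Φ : D →ₐ[k] Trunc k (N + 2), Inv r Φ ∧ Kills ψ Φ ∧
      ∃ f : k[X], Φ a = Ideal.Quotient.mk _ f ∧ X ^ 2 ∣ (f - (C b₀ + C b₁ * X)) := by
    intro N
    induction N with
    | zero =>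
      obtain ⟨Φ, h1, h2, -, h4⟩ := exists_avg ψ r hφ hrψ hB le_rfl
        ((Algebra.ofId k (Trunc k 1)).comp (Bialgebra.counitAlgHom k D))
        (fun c => by
          have h := DFunLike.congr_fun (congrArg WithConv.ofConv
            (map_G r ((Algebra.ofId k (Trunc k 1)).comp (Bialgebra.counitAlgHom k D)))) c
          refine h.trans ?_
          have e1 : (toConv ((Algebra.ofId k (Trunc k 1)).comp (Bialgebra.counitAlgHom k D)) : Pt k D (Trunc k 1)) = 1 :=
            WithConv.ext (AlgHom.ext fun d => rfl)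
          rw [e1, map_one, mul_one, inv_mul_cancel]
          exact (Algebra.TensorProduct.algebraMap_apply _).trans rfl)
        Ψ (AlgHom.ext fun c => hred c) hkill
      exact ⟨Φ, h1, h2, _, (h4 a).trans ha, by simp⟩
    | succ N ih =>
      obtain ⟨Φ, hΦi, hΦk, f, hf, hfd⟩ := ih
      have hk : ∀ c ∈ KerHopf.kerIdeal ψ, Φ c = 0 := by
        suffices h : KerHopf.kerIdeal ψ ≤ RingHom.ker Φ from fun c hc => h hc
        refine Ideal.map_le_iff_le_comap.2 fun b hb => ?_
        rw [RingHom.mem_ker, Bialgebra.counitAlgHom_apply] at hb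
        rw [Ideal.mem_comap, RingHom.mem_ker]
        exact (hΦk b).trans (by rw [hb, map_zero])
      have hnil : IsNilpotent (RingHom.ker (down (k := k) (N + 2) : Trunc k (N + 2 + 1) →+* Trunc k (N + 2))) := by
        refine ⟨2, le_bot_iff.1 ?_⟩
        rw [Submodule.pow_succ, Submodule.pow_one, Ideal.mul_le]
        intro p hp q hq
        obtain ⟨p', rfl⟩ := exists_mul_of_down_eq_zero hp
        obtain ⟨q', rfl⟩ := exists_mul_of_down_eq_zero hq
        rw [Ideal.mem_bot, mul_mul_mul_comm, sq_X_pow_eq_zero (by omega), zero_mul]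
      let Ψ' := Algebra.FormallySmooth.liftOfSurjective (Ideal.Quotient.liftₐ _ Φ hk) (down (k := k) (N + 2))
        (down_surjective _) hnil
      let Ψ'' : D →ₐ[k] Trunc k (N + 2 + 1) := Ψ'.comp (Ideal.Quotient.mkₐ k (KerHopf.kerIdeal ψ))
      obtain ⟨Φ', h1, h2, h3, -⟩ := exists_avg ψ r hφ hrψ hB (by omega : 1 ≤ N + 2) Φ hΦi Ψ''
        (AlgHom.ext fun c => Algebra.FormallySmooth.liftOfSurjective_apply _ _ (down_surjective _) hnil _)
        (fun b => by
          show Ψ' (Ideal.Quotient.mk _ (ψ b)) = _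
          rw [KerHopf.mk_comp]
          exact Ψ'.commutes _)
      obtain ⟨f', hf'⟩ := Ideal.Quotient.mk_surjective (Φ' a)
      refine ⟨Φ', h1, h2, f', hf'.symm, ?_⟩
      have h5 : Ideal.Quotient.mk (Ideal.span {(X : k[X]) ^ (N + 2)}) f' = Ideal.Quotient.mk _ f := by
        have h6 := DFunLike.congr_fun h3 a
        rw [AlgHom.comp_apply, ← hf', hf] at h6
        exact h6
      have h7 := Ideal.mem_span_singleton.1 (Ideal.Quotient.eq.1 h5)
      have h8 : X ^ 2 ∣ f' - f := (pow_dvd_pow X (by omega)).trans h7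
      simpa using dvd_add h8 hfd
  -- the closed subscheme of invariant points
  let K : Ideal D := KerHopf.kerIdeal ψ ⊔
    Ideal.span (Set.range fun p : (B →ₗ[k] k) × D => slice p.1 (G r p.2 - p.2 ⊗ₜ[k] (1 : B)))
  have hK : ∀ {C : Type u} [CommRing C] [Algebra k C] (Φ : D →ₐ[k] C), Inv r Φ → Kills ψ Φ → K ≤ RingHom.ker Φ := by
    intro C _ _ Φ hi hk
    refine sup_le (Ideal.map_le_iff_le_comap.2 fun b hb => ?_) (Ideal.span_le.2 ?_)
    · rw [RingHom.mem_ker, Bialgebra.counitAlgHom_apply] at hb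
      rw [Ideal.mem_comap, RingHom.mem_ker]
      exact (hk b).trans (by rw [hb, map_zero])
    · rintro _ ⟨⟨χ, c⟩, rfl⟩
      show Φ (slice χ (G r c - c ⊗ₜ[k] (1 : B))) = 0
      have hm : ∀ z : D ⊗[k] B, Φ (slice χ z) = slice χ (Algebra.TensorProduct.map Φ (AlgHom.id k B) z) := fun z => by
        induction z using TensorProduct.induction_on with
        | zero => simp
        | tmul p q => simp
        | add p q hp hq => simp only [map_add, hp, hq]
      rw [hm, map_sub, hi, Algebra.TensorProduct.map_tmul, map_one, sub_self, map_zero]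
  have hinj : Function.Injective (Polynomial.aeval (R := k) (Ideal.Quotient.mk K a)) := by
    rw [injective_iff_map_eq_zero]
    intro P hP
    by_contra hP0
    obtain ⟨m, P₁, hP1, hndvd⟩ : ∃ m P₁, P = (X - C b₀) ^ m * P₁ ∧ ¬ (X - C b₀) ∣ P₁ :=
      ⟨_, exists_eq_pow_rootMultiplicity_mul_and_not_dvd P hP0 b₀⟩
    obtain ⟨Φ, hΦi, hΦk, f, hf, hfd⟩ := hcurve m
    have h0 : Φ (Polynomial.aeval a P) = 0 := hK Φ hΦi hΦk (Ideal.Quotient.eq_zero_iff_mem.1 (by
      rw [← hP, ← Ideal.Quotient.mkₐ_eq_mk k, ← Polynomial.aeval_algHom_apply]))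
    rw [← Polynomial.aeval_algHom_apply, hf, ← Ideal.Quotient.mkₐ_eq_mk k, Polynomial.aeval_algHom_apply,
      Ideal.Quotient.mkₐ_eq_mk, Ideal.Quotient.eq_zero_iff_mem, Ideal.mem_span_singleton] at h0
    obtain ⟨q, hq⟩ := hfd
    have hfb : f - C b₀ = X * (C b₁ + X * q) := by linear_combination hq
    rw [hP1, map_mul, map_pow, show Polynomial.aeval f (X - C b₀) = f - C b₀ by simp, hfb, mul_pow, mul_assoc,
      pow_add] at h0
    have h9 := (mul_dvd_mul_iff_left (pow_ne_zero m (X_ne_zero (R := k)))).1 h0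
    have h10 := Polynomial.eval_dvd (x := (0 : k)) ((dvd_pow_self X (two_ne_zero)).trans h9)
    have hf0 : f.eval 0 = b₀ := by
      have := congrArg (Polynomial.eval 0) hfb
      simp at this
      linear_combination this
    have hev : (Polynomial.aeval f P₁).eval 0 = P₁.eval b₀ := by
      rw [← hf0, Polynomial.aeval_def, ← Polynomial.coe_evalRingHom, Polynomial.hom_eval₂,
        show (Polynomial.evalRingHom (0 : k)).comp (algebraMap k k[X]) = RingHom.id k from RingHom.ext fun c => by simp]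
      rfl
    simp only [eval_X, eval_mul, eval_pow, eval_add, eval_C, zero_mul, add_zero, hev, zero_dvd_iff, mul_eq_zero,
      pow_eq_zero_iff'] at h10
    rcases h10 with h11 | h11
    · exact hb₁ h11.1
    · exact hndvd (dvd_iff_isRoot.2 h11)
  obtain ⟨g, hg, hval⟩ := exists_values (Ideal.Quotient.mk K a) hinj
  refine ⟨g, hg, fun e he => ?_⟩
  obtain ⟨y₀, hy₀⟩ := hval e he
  refine ⟨y₀.comp (Ideal.Quotient.mkₐ k K), fun b => ?_, fun c => ?_, hy₀⟩
  · have h1 : Ideal.Quotient.mk K (ψ b) = algebraMap k _ (Coalgebra.counit (R := k) b) := by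
      rw [← Ideal.Quotient.mk_algebraMap, Ideal.Quotient.eq]
      refine (le_sup_left : _ ≤ K) ?_
      rw [← Ideal.Quotient.eq, Ideal.Quotient.mk_algebraMap]
      exact KerHopf.mk_comp ψ b
    exact (congrArg y₀ h1).trans (y₀.commutes _)
  · rw [← sub_eq_zero]
    refine eq_zero_of_slice _ fun χ => ?_
    have hm : ∀ z : D ⊗[k] B, y₀ (Ideal.Quotient.mk K (slice χ z)) =
        slice χ (Algebra.TensorProduct.map (y₀.comp (Ideal.Quotient.mkₐ k K)) (AlgHom.id k B) z) := fun z => by
      induction z using TensorProduct.induction_on with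
      | zero => simp
      | tmul p q =>
        show y₀ (Ideal.Quotient.mkₐ k K (slice χ (p ⊗ₜ[k] q))) = _
        rw [slice_tmul, map_smul, map_smul, Algebra.TensorProduct.map_tmul, slice_tmul]
        rfl
      | add p q hp hq => simp only [map_add, hp, hq]
    have h0 : Ideal.Quotient.mk K (slice χ (G r c - c ⊗ₜ[k] (1 : B))) = 0 :=
      Ideal.Quotient.eq_zero_iff_mem.2 ((le_sup_right : _ ≤ K) (Ideal.subset_span ⟨(χ, c), rfl⟩))
    have := (hm (G r c - c ⊗ₜ[k] (1 : B))).symm.trans ((congrArg y₀ h0).trans (map_zero y₀))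
    rw [map_sub, Algebra.TensorProduct.map_tmul, map_one] at this
    exact this

end Abstract

end Groth.Agent.DiagExt19
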