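import Groth.Agent.Comod.TwoSided
import Groth.Agent.Comod.Cocomm
import Groth.Agent.HopfSub.Basic
import Mathlib.RingTheory.Polynomial.Basic
import Mathlib.Algebra.Polynomial.Div
import Mathlib.RingTheory.HopfAlgebra.GroupLike

/-!
# One layer: a skew primitive element over a diagonalizable Hopf algebra

If `Δ x = x ⊗ 1 + h ⊗ x` over `B = k[M]`, then the relations of `x` over `B` are the multiples of one
skew primitive additive polynomial `P₀(X) + d (1 - h ^ n)`.
-/

set_option autoImplicit false
set_option linter.style.haveILetI false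
set_option synthInstance.maxHeartbeats 400000

universe u

noncomputable section

open TensorProduct Polynomial

namespace Groth.Agent.DiagExt19

open Groth.Agent.Comod

variable {k : Type u} [Field k] {B : Type u} [CommRing B] [HopfAlgebra k B]
  {Q : Type u} [CommRing Q] [Algebra k Q]

/-- the coefficient, linear over the base -/
abbrev lco (i : ℕ) : B[X] →ₗ[k] B := (Polynomial.lcoeff B i).restrictScalars k

/-- the comultiplication of `B[X]` with `X` skew primitive -/
def dpoly (h : B) : B[X] →ₐ[k] B[X] ⊗[k] B[X] :=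
  Polynomial.aevalTower ((Algebra.TensorProduct.map (CAlgHom (R := k)) (CAlgHom (R := k))).comp
    (Bialgebra.comulAlgHom k B)) (X ⊗ₜ[k] 1 + C h ⊗ₜ[k] X)

theorem dpoly_groupLike (h : B) {g : B} (hg : IsGroupLikeElem k g) (i : ℕ) :
    dpoly (k := k) h (C g * X ^ i) =
      ∑ m ∈ Finset.range (i + 1), i.choose m • ((C (g * h ^ (i - m)) * X ^ m) ⊗ₜ[k] (C g * X ^ (i - m))) := by
  rw [map_mul, map_pow, dpoly, aevalTower_C, aevalTower_X, AlgHom.comp_apply, Bialgebra.comulAlgHom_apply,
    hg.comul_eq_tmul_self, Algebra.TensorProduct.map_tmul, add_pow, Finset.mul_sum]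
  refine Finset.sum_congr rfl fun m _ => ?_
  rw [Algebra.TensorProduct.tmul_pow, Algebra.TensorProduct.tmul_pow, one_pow, Algebra.TensorProduct.tmul_mul_tmul,
    one_mul, ← mul_assoc, Algebra.TensorProduct.tmul_mul_tmul, nsmul_eq_mul, mul_comm]
  simp only [CAlgHom_apply, C_mul, C_pow]
  congr 1
  ring_nf

theorem span_induction_groupLike (hB : HopfRep.IsDiagonalizable k B) {p : B → Prop} (h0 : p 0)
    (hadd : ∀ a b, p a → p b → p (a + b)) (hsmul : ∀ (r : k) a, p a → p (r • a))
    (hg : ∀ g, IsGroupLikeElem k g → p g) (b : B) : p b := by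
  have hb : b ∈ Submodule.span k {g : B | IsGroupLikeElem k g} := by rw [hB]; trivial
  induction hb using Submodule.span_induction with
  | mem g hg' => exact hg g hg'
  | zero => exact h0
  | add a c _ _ ha hc => exact hadd a c ha hc
  | smul r a _ ha => exact hsmul r a ha

lemma C_smul_mul (r : k) (b : B) (q : B[X]) : C (r • b) * q = r • (C b * q) := by
  rw [← smul_C, smul_mul_assoc]

variable (hB : HopfRep.IsDiagonalizable k B)

include hB in
theorem lco_dpoly (h : B) (a c : ℕ) (F : B[X]) :
    TensorProduct.map (lco a) (lco c) (dpoly (k := k) h F) =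
      (a + c).choose a • (Coalgebra.comul (R := k) (F.coeff (a + c)) * ((h ^ c) ⊗ₜ[k] (1 : B))) := by
  induction F using Polynomial.induction_on' with
  | add p q hp hq => simp only [map_add, hp, hq, coeff_add, add_mul, nsmul_add]
  | monomial i b =>
    rw [← C_mul_X_pow_eq_monomial]
    refine span_induction_groupLike hB (p := fun b => TensorProduct.map (lco a) (lco c) (dpoly (k := k) h (C b * X ^ i)) =
      (a + c).choose a • (Coalgebra.comul (R := k) ((C b * X ^ i).coeff (a + c)) * ((h ^ c) ⊗ₜ[k] (1 : B))))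
      (by simp) (fun p q hp hq => ?_) (fun r p hp => ?_) (fun g hg => ?_) b
    · simp only [map_add, add_mul, hp, hq, coeff_add, nsmul_add]
    · rw [C_smul_mul, map_smul, map_smul, hp, coeff_smul, map_smul, smul_mul_assoc, smul_comm]
    · rw [dpoly_groupLike h hg, map_sum]
      simp only [map_nsmul, TensorProduct.map_tmul, lco, LinearMap.coe_restrictScalars, lcoeff_apply, coeff_C_mul_X_pow]
      by_cases hi : a + c = i
      · subst hi
        rw [Finset.sum_eq_single a]
        · simp [hg.comul_eq_tmul_self]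
        · intro m _ hm
          rw [if_neg (Ne.symm hm)]
          simp
        · intro ha
          exact absurd (Finset.mem_range.2 (by omega)) ha
      · rw [if_neg hi, map_zero, zero_mul, nsmul_zero]
        refine Finset.sum_eq_zero fun m hm => ?_
        have := Finset.mem_range.1 hm
        by_cases h1 : a = m
        · rw [if_neg (fun h2 : c = i - m => hi (by omega))]
          simp
        · rw [if_neg h1]
          simp

/-- the polynomials of degree less than `n`, as a subspace -/
abbrev low (n : ℕ) : Submodule k B[X] := (Polynomial.degreeLT B n).restrictScalars k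

lemma C_mul_X_pow_mem_low {i n : ℕ} (hi : i < n) (b : B) : C b * X ^ i ∈ low (k := k) n := by
  rw [Submodule.restrictScalars_mem, mem_degreeLT]
  exact lt_of_le_of_lt (degree_C_mul_X_pow_le i b) (WithBot.coe_lt_coe.2 hi)

lemma tmul_mem_low {n : ℕ} {p q : B[X]} (hp : p ∈ low (k := k) n) (hq : q ∈ low (k := k) n) :
    p ⊗ₜ[k] q ∈ LinearMap.range (TensorProduct.map (low (k := k) (B := B) n).subtype (low (k := k) (B := B) n).subtype) :=
  ⟨⟨p, hp⟩ ⊗ₜ[k] ⟨q, hq⟩, rfl⟩

include hB in
theorem dpoly_low (h : B) {n : ℕ} {F : B[X]} (hF : F ∈ low (k := k) n) :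
    dpoly (k := k) h F ∈ LinearMap.range (TensorProduct.map (low (k := k) (B := B) n).subtype (low (k := k) (B := B) n).subtype) := by
  rw [F.as_sum_support_C_mul_X_pow, map_sum]
  refine Submodule.sum_mem _ fun i hi => ?_
  have hin : i < n := by
    rw [Submodule.restrictScalars_mem, mem_degreeLT] at hF
    exact WithBot.coe_lt_coe.1 (lt_of_le_of_lt (le_degree_of_ne_zero (mem_support_iff.1 hi)) hF)
  refine span_induction_groupLike hB (p := fun b => dpoly (k := k) h (C b * X ^ i) ∈ _) (by simp)
    (fun p q hp hq => ?_) (fun r p hp => ?_) (fun g hg => ?_) _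
  · rw [C_add, add_mul, map_add]; exact add_mem hp hq
  · rw [C_smul_mul, map_smul]; exact Submodule.smul_mem _ _ hp
  · rw [dpoly_groupLike h hg]
    refine Submodule.sum_mem _ fun m hm => ?_
    have := Finset.mem_range.1 hm
    exact Submodule.smul_of_tower_mem _ _
      (tmul_mem_low (C_mul_X_pow_mem_low (by omega) _) (C_mul_X_pow_mem_low (by omega) _))

variable (ΔQ : Q →ₐ[k] Q ⊗[k] Q) (j : B →ₐ[k] Q) (hj : Function.Injective j)
  (hΔj : ∀ b, ΔQ (j b) = Algebra.TensorProduct.map j j (Coalgebra.comul (R := k) b))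
  (x : Q) {h : B} (hh : IsGroupLikeElem k h) (hx : ΔQ x = x ⊗ₜ[k] (1 : Q) + j h ⊗ₜ[k] x)

include hΔj hx in
theorem map_dpoly (F : B[X]) :
    Algebra.TensorProduct.map (aevalTower j x) (aevalTower j x) (dpoly (k := k) h F) = ΔQ (aevalTower j x F) := by
  have key : ∀ t : B ⊗[k] B, Algebra.TensorProduct.map (aevalTower j x) (aevalTower j x)
      (Algebra.TensorProduct.map (CAlgHom (R := k)) (CAlgHom (R := k)) t) = Algebra.TensorProduct.map j j t := fun t => by
    induction t using TensorProduct.induction_on with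
    | zero => simp
    | tmul a b => simp
    | add a b ha hb => simp only [map_add, ha, hb]
  induction F using Polynomial.induction_on' with
  | add p q hp hq => simp only [map_add, hp, hq]
  | monomial i b =>
    rw [← C_mul_X_pow_eq_monomial, map_mul, map_pow, map_mul, map_pow, map_mul, map_pow, map_mul, map_pow,
      aevalTower_C, aevalTower_X, dpoly, aevalTower_C, aevalTower_X, AlgHom.comp_apply,
      Bialgebra.comulAlgHom_apply, key, hΔj, hx]
    simp

omit [HopfAlgebra k B] in
lemma eval_eq_sum_of_natDegree_eq {R : Type u} [CommRing R] (P : R[X]) {n : ℕ} (hn : P.natDegree = n) (f : R) :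
    P.eval f = ∑ i ∈ Finset.range (n + 1), P.coeff i * f ^ i := by
  rw [eval_eq_sum_range, hn]

/-- The relation of a skew primitive element. -/
structure Rel (e : B[X] →ₐ[k] Q) (h : B) where
  /-- the degree -/
  n : ℕ
  /-- the generator of the relations -/
  P : B[X]
  /-- its scalar part -/
  P₀ : k[X]
  /-- its constant -/
  d : k
  pos : 0 < n
  monic : P.Monic
  natDegree : P.natDegree = n
  monic₀ : P₀.Monic
  natDegree₀ : P₀.natDegree = n
  coeff_zero : P₀.coeff 0 = 0
  map_eq : e P = 0
  dvd : ∀ F, e F = 0 → P ∣ F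
  coeff_pos : ∀ i, 0 < i → P.coeff i = P₀.coeff i • (1 : B)
  coeff_const : P.coeff 0 = d • (1 - h ^ n)
  map_counit : P.map (Bialgebra.counitAlgHom k B).toRingHom = P₀
  coeff_ne : ∀ i, 0 < i → P₀.coeff i ≠ 0 → h ^ i = h ^ n ∧ ∀ a, 0 < a → a < i → (i.choose a : k) = 0
  eval_smul : ∀ c : k, P.eval (c • (1 - h)) = (P₀.eval c + d) • (1 - h ^ n)

include hB hj hΔj hh hx in
theorem nonempty_rel (hne : ∃ F, aevalTower j x F = 0 ∧ F ≠ 0) : Nonempty (Rel (aevalTower j x) h) := by
  classical
  set e := aevalTower j x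
  haveI : Nontrivial B := (Bialgebra.counitAlgHom k B).toRingHom.domain_nontrivial
  have hex : ∃ n, ∃ F, e F = 0 ∧ F ≠ 0 ∧ F.natDegree = n := by
    obtain ⟨F, h1, h2⟩ := hne
    exact ⟨_, F, h1, h2, rfl⟩
  set n := Nat.find hex with hndef
  obtain ⟨F0, hF0, hF0ne, hF0deg⟩ := Nat.find_spec hex
  have hinj : ∀ F ∈ low (k := k) (B := B) n, e F = 0 → F = 0 := by
    intro F hF h0
    by_contra hne'
    have h1 := Nat.find_min' hex ⟨F, h0, hne', rfl⟩
    rw [Submodule.restrictScalars_mem, mem_degreeLT, degree_eq_natDegree hne'] at hF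
    have h2 : F.natDegree < n := Nat.cast_lt.1 hF
    omega
  have hnpos : 0 < n := by
    rcases Nat.eq_zero_or_pos n with h0 | h0
    · exfalso
      rw [← hndef] at hF0deg
      rw [h0] at hF0deg
      rw [eq_C_of_natDegree_eq_zero hF0deg] at hF0 hF0ne
      rw [show e (C (F0.coeff 0)) = j (F0.coeff 0) from aevalTower_C _ _ _, ← map_zero j] at hF0
      exact hF0ne (by rw [hj hF0, C_0])
    · exact h0
  -- the leading coefficients
  let L : Submodule k Q := (low (k := k) (B := B) n).map e.toLinearMap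
  let Λ : B →ₗ[k] Q ⧸ L := L.mkQ ∘ₗ
    { toFun := fun a => e (C a * X ^ n)
      map_add' := fun a b => by rw [C_add, add_mul, map_add]
      map_smul' := fun r a => by rw [C_smul_mul, map_smul, RingHom.id_apply] }
  let ψ2 : Q →ₗ[k] Q ⊗[k] (Q ⧸ L) := L.mkQ.lTensor Q ∘ₗ ΔQ.toLinearMap
  have hψlow : ∀ F ∈ low (k := k) (B := B) n, ψ2 (e F) = 0 := by
    intro F hF
    show L.mkQ.lTensor Q (ΔQ (e F)) = 0
    rw [← map_dpoly ΔQ j hΔj x hx]
    obtain ⟨w, hw⟩ := dpoly_low hB h hF
    rw [← hw]
    clear hw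
    induction w using TensorProduct.induction_on with
    | zero => simp
    | tmul p q =>
      simp only [TensorProduct.map_tmul, Submodule.coe_subtype, Algebra.TensorProduct.map_tmul, LinearMap.lTensor_tmul]
      rw [(Submodule.Quotient.mk_eq_zero L).2 ⟨q, q.2, rfl⟩ |> fun h => (show L.mkQ (e q) = 0 from h),
        TensorProduct.tmul_zero]
    | add p q hp hq => simp only [map_add, hp, hq, add_zero]
  have hψtop : ∀ g, IsGroupLikeElem k g → ψ2 (e (C g * X ^ n)) = j (g * h ^ n) ⊗ₜ[k] Λ g := by
    intro g hg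
    show L.mkQ.lTensor Q (ΔQ (e _)) = _
    rw [← map_dpoly ΔQ j hΔj x hx, dpoly_groupLike h hg, map_sum, map_sum, Finset.sum_eq_single 0]
    · simp [e, Λ]
    · intro m hm hm0
      have := Finset.mem_range.1 hm
      rw [map_nsmul, map_nsmul, Algebra.TensorProduct.map_tmul, LinearMap.lTensor_tmul,
        show L.mkQ (e (C g * X ^ (n - m))) = 0 from
          (Submodule.Quotient.mk_eq_zero L).2 ⟨_, C_mul_X_pow_mem_low (by omega) g, rfl⟩,
        TensorProduct.tmul_zero, nsmul_zero]
    · intro h0
      exact absurd (Finset.mem_range.2 (by omega)) h0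
  obtain ⟨g, hg, hΛg⟩ : ∃ g, IsGroupLikeElem k g ∧ Λ g = 0 := by
    let a := F0.leadingCoeff
    have ha : a ≠ 0 := leadingCoeff_ne_zero.2 hF0ne
    have hR : F0.eraseLead ∈ low (k := k) (B := B) n := by
      rw [Submodule.restrictScalars_mem, mem_degreeLT]
      have := degree_eraseLead_lt hF0ne
      rwa [degree_eq_natDegree hF0ne, hF0deg] at this
    have hψa : ψ2 (e (C a * X ^ n)) = 0 := by
      have h1 := congrArg ψ2 hF0
      rw [← F0.eraseLead_add_C_mul_X_pow, map_add, map_add, hψlow _ hR, zero_add, hF0deg, map_zero] at h1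
      exact h1
    have hsp : a ∈ Submodule.span k (Set.range (GroupLike.val (R := k) (A := B))) := by
      have : a ∈ Submodule.span k {g : B | IsGroupLikeElem k g} := by rw [hB]; trivial
      refine Submodule.span_mono ?_ this
      intro g hg'
      exact ⟨⟨g, hg'⟩, rfl⟩
    obtain ⟨l, hl⟩ := (Finsupp.mem_span_range_iff_exists_finsupp).1 hsp
    obtain ⟨g, hgs⟩ : l.support.Nonempty := by
      rw [Finsupp.support_nonempty_iff]
      rintro rfl
      simp at hl
      exact ha hl.symm
    refine ⟨g, g.isGroupLikeElem_val, ?_⟩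
    let mh : B →ₗ[k] Q := j.toLinearMap ∘ₗ LinearMap.mulRight k (h ^ n)
    have hmh : Function.Injective mh := fun p q hpq =>
      (hh.pow (n := n)).isUnit.mul_left_injective (hj hpq)
    have hli : LinearIndependent k (fun g : GroupLike k B => mh (g : B)) :=
      linearIndep_groupLikeVal.map' mh (LinearMap.ker_eq_bot.2 hmh)
    obtain ⟨f, hf⟩ := LinearMap.exists_leftInverse_of_injective
      (Finsupp.linearCombination k fun g : GroupLike k B => mh (g : B)) (LinearMap.ker_eq_bot.2 hli)
    have hf' : ∀ g' : GroupLike k B, f (mh (g' : B)) = Finsupp.single g' 1 := fun g' => by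
      have := LinearMap.congr_fun hf (Finsupp.single g' 1)
      simpa using this
    have h1 : (∑ g' ∈ l.support, l g' • (mh (g' : B) ⊗ₜ[k] Λ (g' : B))) = 0 := by
      rw [← hψa, show C a * X ^ n = ∑ g' ∈ l.support, l g' • (C (g' : B) * X ^ n) by
        rw [← hl, Finsupp.sum, map_sum, Finset.sum_mul]
        exact Finset.sum_congr rfl fun g' _ => C_smul_mul _ _ _, map_sum, map_sum]
      refine Finset.sum_congr rfl fun g' _ => ?_
      rw [map_smul, map_smul, hψtop _ g'.isGroupLikeElem_val]
      rfl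
    have h2 := congrArg ((TensorProduct.lid k (Q ⧸ L)).toLinearMap ∘ₗ (Finsupp.lapply g ∘ₗ f).rTensor (Q ⧸ L)) h1
    simp only [map_sum, map_smul, map_zero, LinearMap.comp_apply, LinearMap.rTensor_tmul, hf', Finsupp.lapply_apply,
      LinearEquiv.coe_coe, TensorProduct.lid_tmul, Finsupp.single_apply] at h2
    rw [Finset.sum_eq_single g (fun g' _ hne' => by rw [if_neg hne', zero_smul, smul_zero])
      (fun hn' => absurd hgs hn'), if_pos rfl, one_smul, smul_eq_zero] at h2
    exact h2.resolve_left (Finsupp.mem_support_iff.1 hgs)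
  obtain ⟨R, hR, hRe⟩ := (Submodule.Quotient.mk_eq_zero L).1 hΛg
  let g' := HopfAlgebra.antipode k g
  have hgg' : g' * g = 1 := hg.antipode_mul_cancel
  have hR' : C g' * R ∈ low (k := k) (B := B) n := by
    rw [← smul_eq_C_mul]
    exact (Polynomial.degreeLT B n).smul_mem g' hR
  let P := X ^ n - C g' * R
  have hPdeg : (C g' * R).degree < n := by
    rw [Submodule.restrictScalars_mem, mem_degreeLT] at hR'
    exact hR'
  have hP : P.Monic := monic_X_pow_sub hPdeg
  have heP : e P = 0 := by
    have h1 : e R = e (C g * X ^ n) := hRe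
    rw [map_sub, map_mul, h1, ← map_mul, ← mul_assoc, ← C_mul, hgg', C_1, one_mul, sub_self]
  have hPn : P.natDegree = n := by
    refine natDegree_eq_of_degree_eq_some ?_
    rw [degree_sub_eq_left_of_degree_lt] <;> rw [degree_X_pow]
    exact hPdeg
  have hdvd : ∀ F, e F = 0 → P ∣ F := by
    intro F hF
    rw [← modByMonic_eq_zero_iff_dvd hP]
    refine hinj _ ?_ ?_
    · rw [Submodule.restrictScalars_mem, mem_degreeLT]
      have := degree_modByMonic_lt F hP
      rwa [degree_eq_natDegree hP.ne_zero, hPn] at this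
    · rw [modByMonic_eq_sub_mul_div, map_sub, map_mul, heP, zero_mul, sub_zero, hF]
  -- the generator is skew primitive
  let S := LinearMap.range (TensorProduct.map (low (k := k) (B := B) n).subtype (low (k := k) (B := B) n).subtype)
  have hsk : dpoly (k := k) h P = P ⊗ₜ[k] 1 + C (h ^ n) ⊗ₜ[k] P := by
    have h1 : (1 : B[X]) ∈ low (k := k) (B := B) n := by
      simpa using C_mul_X_pow_mem_low (k := k) hnpos (1 : B)
    have hC : C (h ^ n) ∈ low (k := k) (B := B) n := by
      simpa using C_mul_X_pow_mem_low (k := k) hnpos (h ^ n)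
    have hX : dpoly (k := k) h ((X : B[X]) ^ n) - ((X : B[X]) ^ n) ⊗ₜ[k] (1 : B[X]) - C (h ^ n) ⊗ₜ[k] ((X : B[X]) ^ n) ∈ S := by
      have e1 := dpoly_groupLike (k := k) h IsGroupLikeElem.one n
      simp only [C_1, one_mul] at e1
      rw [e1, Finset.sum_range_succ, Finset.range_eq_Ico, Finset.sum_eq_sum_Ico_succ_bot hnpos]
      simp only [Nat.choose_zero_right, Nat.choose_self, one_smul, Nat.sub_zero, Nat.sub_self, pow_zero, C_1,
        one_mul, mul_one]
      rw [show ∀ a b c : B[X] ⊗[k] B[X], a + b + c - c - a = b from fun a b c => by abel]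
      refine Submodule.sum_mem _ fun m hm => ?_
      have := Finset.mem_Ico.1 hm
      refine Submodule.smul_of_tower_mem _ _ (tmul_mem_low (C_mul_X_pow_mem_low (by omega) _) ?_)
      simpa using C_mul_X_pow_mem_low (k := k) (show n - m < n by omega) (1 : B)
    have hT : dpoly (k := k) h P - P ⊗ₜ[k] 1 - C (h ^ n) ⊗ₜ[k] P ∈ S := by
      have h2 : dpoly (k := k) h (C g' * R) - (C g' * R) ⊗ₜ[k] 1 - C (h ^ n) ⊗ₜ[k] (C g' * R) ∈ S :=
        sub_mem (sub_mem (dpoly_low hB h hR') (tmul_mem_low hR' h1)) (tmul_mem_low hC hR')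
      have := sub_mem hX h2
      convert this using 1
      simp only [P, map_sub, TensorProduct.sub_tmul, TensorProduct.tmul_sub]
      abel
    obtain ⟨w, hw⟩ := hT
    have hi : Function.Injective (e.toLinearMap ∘ₗ (low (k := k) (B := B) n).subtype) :=
      (injective_iff_map_eq_zero _).2 fun F hF => Subtype.ext (hinj F F.2 hF)
    have h0 : TensorProduct.map (e.toLinearMap ∘ₗ (low (k := k) (B := B) n).subtype)
        (e.toLinearMap ∘ₗ (low (k := k) (B := B) n).subtype) w = 0 := by
      rw [TensorProduct.map_comp, LinearMap.comp_apply, hw]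
      show Algebra.TensorProduct.map e e _ = 0
      rw [map_sub, map_sub, map_dpoly ΔQ j hΔj x hx, heP, Algebra.TensorProduct.map_tmul,
        Algebra.TensorProduct.map_tmul, heP]
      simp
    have hwz : w = 0 := by
      rw [← LinearMap.rTensor_comp_lTensor, LinearMap.comp_apply] at h0
      have h1 := (map_eq_zero_iff _ (Module.Flat.rTensor_preserves_injective_linearMap _ hi)).1 h0
      exact (map_eq_zero_iff _ (Module.Flat.lTensor_preserves_injective_linearMap _ hi)).1 h1
    rw [hwz, map_zero] at hw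
    rw [← sub_eq_zero, ← sub_sub]
    exact hw.symm
  -- reading off the coefficients
  have hco : ∀ a c, (a + c).choose a • (Coalgebra.comul (R := k) (P.coeff (a + c)) * ((h ^ c) ⊗ₜ[k] (1 : B))) =
      (if c = 0 then P.coeff a ⊗ₜ[k] (1 : B) else 0) + (if a = 0 then (h ^ n) ⊗ₜ[k] P.coeff c else 0) := by
    intro a c
    rw [← lco_dpoly hB, hsk, map_add, TensorProduct.map_tmul, TensorProduct.map_tmul]
    simp only [lco, LinearMap.coe_restrictScalars, lcoeff_apply, coeff_one, coeff_C]
    congr 1 <;> split <;> simp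
  let p : ℕ → k := fun i => Coalgebra.counit (R := k) (P.coeff i)
  have hpi : ∀ i, 0 < i → P.coeff i = p i • (1 : B) := by
    intro i hi
    have h1 := hco i 0
    rw [if_pos rfl, if_neg hi.ne', add_zero, add_zero, Nat.choose_self, one_smul, pow_zero,
      ← Algebra.TensorProduct.one_def, mul_one] at h1
    have h2 := congrArg (TensorProduct.lid k B) (Coalgebra.rTensor_counit_comul (R := k) (P.coeff i))
    rw [h1] at h2
    simpa [p] using h2.symm
  have hhi : ∀ i, 0 < i → p i ≠ 0 → h ^ i = h ^ n := by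
    intro i hi hp
    have h1 := hco 0 i
    rw [if_neg hi.ne', if_pos rfl, zero_add, zero_add, Nat.choose_zero_right, one_smul, hpi i hi, map_smul,
      Bialgebra.comul_one, smul_mul_assoc, one_mul, TensorProduct.tmul_smul] at h1
    have h2 := congrArg ((TensorProduct.rid k B).toLinearMap ∘ₗ (Coalgebra.counit (R := k) (A := B)).lTensor B) h1
    simp at h2
    exact smul_right_injective B hp h2
  have hchoose : ∀ i, 0 < i → p i ≠ 0 → ∀ a, 0 < a → a < i → (i.choose a : k) = 0 := by
    intro i hi hp a ha hai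
    have h1 := hco a (i - a)
    rw [if_neg (by omega : i - a ≠ 0), if_neg ha.ne', add_zero, show a + (i - a) = i by omega, hpi i hi, map_smul,
      Bialgebra.comul_one, smul_mul_assoc, one_mul, ← Nat.cast_smul_eq_nsmul k, smul_smul] at h1
    have h2 := congrArg ((Coalgebra.counit (R := k) (A := B)).comp ((TensorProduct.lid k B).toLinearMap ∘ₗ
      (Coalgebra.counit (R := k) (A := B)).rTensor B)) h1
    simp only [LinearMap.comp_apply, map_smul, map_zero, LinearMap.rTensor_tmul, LinearEquiv.coe_coe,
      TensorProduct.lid_tmul, (hh.pow (n := i - a)).counit_eq_one, one_smul, Bialgebra.counit_one, smul_eq_mul,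
      mul_one, mul_eq_zero] at h2
    exact h2.resolve_right hp
  obtain ⟨φ, hφ⟩ := exists_integral_of_linRed (linRed_of_isDiagonalizable hB)
  have hd : P.coeff 0 = φ (P.coeff 0) • (1 - h ^ n) := by
    have h1 := hco 0 0
    rw [if_pos rfl, if_pos rfl, Nat.choose_self, one_smul, pow_zero, ← Algebra.TensorProduct.one_def, mul_one] at h1
    have h2 := congrArg (slice φ) h1
    rw [hφ.slice_comul, map_add, slice_tmul, slice_tmul, hφ.map_one, one_smul] at h2
    rw [smul_sub, h2, add_sub_cancel_right]
  -- the scalar polynomial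
  let P₀ := P.map (Bialgebra.counitAlgHom k B).toRingHom
  have hp0 : ∀ i, P₀.coeff i = p i := fun i => by simp [P₀, p]
  have hP0n : P₀.natDegree = n := by rw [hP.natDegree_map, hPn]
  have hp00 : p 0 = 0 := by
    show Coalgebra.counit (R := k) (P.coeff 0) = 0
    rw [hd, map_smul, map_sub, (hh.pow (n := n)).counit_eq_one, Bialgebra.counit_one, sub_self, smul_zero]
  refine ⟨⟨n, P, P₀, φ (P.coeff 0), hnpos, hP, hPn, hP.map _, hP0n, by rw [hp0, hp00], heP, hdvd, fun i hi => by rw [hp0, hpi i hi], hd, rfl,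
    fun i hi hp => ⟨hhi i hi (hp0 i ▸ hp), hchoose i hi (hp0 i ▸ hp)⟩, fun c => ?_⟩⟩
  rw [eval_eq_sum_of_natDegree_eq P hPn, eval_eq_sum_of_natDegree_eq P₀ hP0n, add_smul, Finset.sum_smul,
    Finset.sum_range_succ' _ n, Finset.sum_range_succ' _ n, hp0, hp00, zero_mul, zero_smul, add_zero, pow_zero,
    mul_one, ← hd]
  congr 1
  refine Finset.sum_congr rfl fun i _ => ?_
  rw [hp0, hpi _ (Nat.succ_pos i), _root_.smul_pow, smul_mul_smul_comm, one_mul]
  by_cases hp : p (i + 1) = 0
  · rw [hp, zero_mul, zero_smul, zero_smul]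
  congr 1
  -- freshman's dream
  rw [← hhi _ (Nat.succ_pos i) hp]
  have hc0 := hchoose _ (Nat.succ_pos i) hp
  have key : ∀ (T : Type u) [CommRing T] [Algebra k T] (y : T), (y + 1) ^ (i + 1) = 1 + y ^ (i + 1) := by
    intro T _ _ y
    rw [add_pow, Finset.sum_range_succ, Finset.range_eq_Ico, Finset.sum_eq_sum_Ico_succ_bot (Nat.succ_pos i)]
    rw [Finset.sum_eq_zero fun m hm => by
      have := Finset.mem_Ico.1 hm
      rw [← map_natCast (algebraMap k T), hc0 m (by omega) (by omega), map_zero, mul_zero]]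
    simp
  have hsign : (-1 : k) ^ (i + 1) = -1 := by
    have h1 := key k (-1)
    rw [neg_add_cancel, zero_pow (Nat.succ_ne_zero i)] at h1
    linear_combination -h1
  calc (1 - h) ^ (i + 1) = ((-1 : k) • h + 1) ^ (i + 1) := by congr 1; simp [sub_eq_neg_add]
    _ = 1 + ((-1 : k) • h) ^ (i + 1) := key B _
    _ = 1 - h ^ (i + 1) := by rw [_root_.smul_pow, hsign]; simp [sub_eq_add_neg]

end Groth.Agent.DiagExt19
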