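import Groth.Agent.DiagExt19.Step
import Mathlib.FieldTheory.IsAlgClosed.Basic

/-!
# An extension of a diagonalizable group by a unipotent one splits
-/

set_option autoImplicit false
set_option linter.style.haveILetI false

universe u

noncomputable section

open TensorProduct Polynomial WithConv

namespace Groth.Agent.DiagExt19

open Groth.Agent.Comod

variable {k : Type u} [Field k] {A : Type u} [CommRing A] [HopfAlgebra k A]
  {B : Type u} [CommRing B] [HopfAlgebra k B]

/-- On an algebraically closed field a retraction extends along a step of the chain. -/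
theorem exists_step [IsAlgClosed k] (hB : HopfRep.IsDiagonalizable k B) (ψ : B →ₐc[k] A) {D : Subalgebra k A}
    (hD : SGA3.IsHopfSubalgebra k A D) (hBD : (ψ : B →ₐ[k] A).range ≤ D) (r : ↥D →ₐ[k] B) (hr : IsRetr ψ r)
    (x : A) {h : B} (hh : IsGroupLikeElem k h)
    (hx : Coalgebra.comul (R := k) x - x ⊗ₜ[k] (1 : A) - ψ h ⊗ₜ[k] x ∈ (HopfSub.ι₂ D).range) :
    ∃ r' : ↥(D ⊔ Algebra.adjoin k {x}) →ₐ[k] B, IsRetr ψ r' := by
  obtain ⟨L⟩ := nonempty_layer hB ψ hD hBD r hr x hh hx
  by_cases hne : ∃ F, aevalTower ((Ideal.Quotient.mkₐ k L.I).comp (ψ : B →ₐ[k] A)) (Ideal.Quotient.mk L.I L.x') F = 0 ∧ F ≠ 0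
  · obtain ⟨R⟩ := nonempty_rel hB L.ΔQ _ L.injective L.comul_j _ hh L.comul_x hne
    have hdeg : (R.P₀ + C R.d).natDegree = R.n := by rw [natDegree_add_C, R.natDegree₀]
    obtain ⟨c, hc⟩ := IsAlgClosed.exists_root (R.P₀ + C R.d) (fun h0 => by
      have := natDegree_eq_zero_iff_degree_le_zero.2 (le_of_eq h0)
      have := R.pos
      omega)
    refine L.exists_extend ψ (c • (1 - h)) (fun F hF => ?_) ?_
    · obtain ⟨G, rfl⟩ := R.dvd F hF
      rw [eval_mul, R.eval_smul, show R.P₀.eval c + R.d = 0 by simpa using hc, zero_smul, zero_mul]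
    · rw [map_smul, map_sub, Bialgebra.comul_one, hh.comul_eq_tmul_self, Algebra.TensorProduct.one_def,
        TensorProduct.tmul_smul, ← TensorProduct.smul_tmul', ← smul_add, TensorProduct.sub_tmul,
        TensorProduct.tmul_sub]
      congr 1
      abel
  · refine L.exists_extend ψ 0 (fun F hF => ?_) (by simp)
    rw [of_not_not fun hF0 => hne ⟨F, hF, hF0⟩, eval_zero]

/-- a retraction of a diagonalizable quotient with unipotent kernel from its extension along the chain -/
theorem exists_retraction_of_step [Algebra.FiniteType k A] (hB : HopfRep.IsDiagonalizable k B)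
    (ψ : B →ₐc[k] A) (hψ : Function.Injective ψ) [(KerHopf.kerIdeal ψ).IsHopfIdeal k]
    (hU : HopfRep.IsUnipotent k (A ⧸ KerHopf.kerIdeal ψ))
    (step : ∀ (D : Subalgebra k A), SGA3.IsHopfSubalgebra k A D → (ψ : B →ₐ[k] A).range ≤ D →
      ∀ (r : ↥D →ₐ[k] B), IsRetr ψ r → ∀ (x : A) (h : B), IsGroupLikeElem k h →
        Coalgebra.comul (R := k) x - x ⊗ₜ[k] (1 : A) - ψ h ⊗ₜ[k] x ∈ (HopfSub.ι₂ D).range →
        ∃ r' : ↥(D ⊔ Algebra.adjoin k {x}) →ₐ[k] B, IsRetr ψ r') :
    ∃ r : A →ₐc[k] B, r.comp ψ = BialgHom.id k B := by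
  have h := chain_induction ψ hψ hU hB
    (P := fun D => (ψ : B →ₐ[k] A).range ≤ D ∧ ∃ r : ↥D →ₐ[k] B, IsRetr ψ r) ?_ ?_
  · obtain ⟨-, r, hr⟩ := h
    let σ : A →ₐ[k] B := r.comp Subalgebra.topEquiv.symm.toAlgHom
    have hσ : ∀ b, σ (ψ b) = b := fun b => hr.map_range b trivial
    have hcomul : (Algebra.TensorProduct.map σ σ).comp (Bialgebra.comulAlgHom k A) =
        (Bialgebra.comulAlgHom k B).comp σ := AlgHom.ext fun a => by
      have key : ∀ z : A ⊗[k] A, ∃ t : ↥(⊤ : Subalgebra k A) ⊗[k] ↥(⊤ : Subalgebra k A),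
          HopfSub.ι₂ (⊤ : Subalgebra k A) t = z ∧ Algebra.TensorProduct.map r r t = Algebra.TensorProduct.map σ σ z := fun z => by
        induction z using TensorProduct.induction_on with
        | zero => exact ⟨0, map_zero _, by simp⟩
        | tmul p q => exact ⟨⟨p, trivial⟩ ⊗ₜ[k] ⟨q, trivial⟩, rfl, rfl⟩
        | add p q hp hq =>
          obtain ⟨p', e1, f1⟩ := hp
          obtain ⟨q', e2, f2⟩ := hq
          exact ⟨p' + q', by rw [map_add, e1, e2], by rw [map_add, map_add, f1, f2]⟩
      obtain ⟨t, ht, ht'⟩ := key (Coalgebra.comul (R := k) a)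
      exact ht'.symm.trans (hr.comul t ⟨a, trivial⟩ ht)
    let c : A →ₐ[k] k := (Bialgebra.counitAlgHom k B).comp σ
    have hidem : toConv c * toConv c = toConv c := WithConv.ofConv_injective (AlgHom.ext fun a => by
      show (toConv c * toConv c) a = c a
      rw [AlgHom.convMul_apply]
      have h2 := congrArg (fun z : B ⊗[k] B => LinearMap.mul' k k (TensorProduct.map (Coalgebra.counit (R := k))
        (Coalgebra.counit (R := k)) z)) (DFunLike.congr_fun hcomul a)
      simp only [AlgHom.comp_apply, Bialgebra.comulAlgHom_apply] at h2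
      refine Eq.trans (?_ : _ = LinearMap.mul' k k (TensorProduct.map (Coalgebra.counit (R := k))
        (Coalgebra.counit (R := k)) (Algebra.TensorProduct.map σ σ (Coalgebra.comul (R := k) a)))) (h2.trans ?_)
      · induction Coalgebra.comul (R := k) a using TensorProduct.induction_on with
        | zero => simp
        | tmul p q => simp [c]
        | add p q hp hq => simp only [map_add, hp, hq]
      · show _ = Coalgebra.counit (R := k) (σ a)
        conv_rhs => rw [← (TensorProduct.lid k B).apply_symm_apply (σ a)]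
        rw [TensorProduct.lid_symm_apply, ← Coalgebra.rTensor_counit_comul]
        induction Coalgebra.comul (R := k) (σ a) using TensorProduct.induction_on with
        | zero => simp
        | tmul p q => simp
        | add p q hp hq => simp only [map_add, hp, hq])
    have hc1 : toConv c = 1 :=
      calc toConv c = toConv c * (toConv c * toConv (c.comp (HopfAlgebra.antipodeAlgHom k A))) := by
            rw [conv_comp_antipode, mul_one]
        _ = 1 := by rw [← mul_assoc, hidem, conv_comp_antipode]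
    refine ⟨BialgHom.ofAlgHom σ (AlgHom.ext fun a => ?_) hcomul, BialgHom.ext fun b => hσ b⟩
    exact (DFunLike.congr_fun (congrArg WithConv.ofConv hc1) a).trans (by simp)
  · refine ⟨le_rfl, (AlgEquiv.ofInjective (ψ : B →ₐ[k] A) hψ).symm.toAlgHom,
      fun b hb => (AlgEquiv.ofInjective (ψ : B →ₐ[k] A) hψ).symm_apply_apply b, fun t a hta => ?_⟩
    obtain ⟨_, b, rfl⟩ := a
    let e := AlgEquiv.ofInjective (ψ : B →ₐ[k] A) hψ
    have he : ∀ s, Algebra.TensorProduct.map (ψ : B →ₐ[k] A) (ψ : B →ₐ[k] A)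
        (Algebra.TensorProduct.map e.symm.toAlgHom e.symm.toAlgHom s) = HopfSub.ι₂ (ψ : B →ₐ[k] A).range s := fun s => by
      induction s using TensorProduct.induction_on with
      | zero => simp
      | tmul p q =>
        simp only [Algebra.TensorProduct.map_tmul, HopfSub.ι₂]
        exact congrArg₂ (· ⊗ₜ[k] ·) (congrArg Subtype.val (e.apply_symm_apply p))
          (congrArg Subtype.val (e.apply_symm_apply q))
      | add p q hp hq => simp only [map_add, hp, hq]
    apply HopfSub.map_injective (ψ : B →ₐ[k] A) (ψ : B →ₐ[k] A) hψ hψ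
    rw [he, hta, show e.symm.toAlgHom ⟨(ψ : B →ₐ[k] A).toRingHom b, b, rfl⟩ = b from e.symm_apply_apply b]
    exact (CoalgHomClass.map_comp_comul_apply ψ b).symm
  · rintro D hD - x h hh hx ⟨hBD, r, hr⟩
    exact ⟨hBD.trans le_sup_left, step D hD hBD r hr x h hh hx⟩

/-- the extension of a diagonalizable group by a unipotent one splits -/
theorem exists_retraction [IsAlgClosed k] [Algebra.FiniteType k A] (hB : HopfRep.IsDiagonalizable k B)
    (ψ : B →ₐc[k] A) (hψ : Function.Injective ψ) [(KerHopf.kerIdeal ψ).IsHopfIdeal k]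
    (hU : HopfRep.IsUnipotent k (A ⧸ KerHopf.kerIdeal ψ)) :
    ∃ r : A →ₐc[k] B, r.comp ψ = BialgHom.id k B :=
  exists_retraction_of_step hB ψ hψ hU fun _ hD hBD r hr x _ hh hx => exists_step hB ψ hD hBD r hr x hh hx

end Groth.Agent.DiagExt19
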