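import Groth.Agent.DiagExt19.Chain
import Groth.Agent.DiagExt19.Layer
import Mathlib.RingTheory.Bialgebra.Hom

/-!
# One step of the chain: reducing to a layer over the diagonalizable group
-/

set_option autoImplicit false
set_option linter.style.haveILetI false
set_option synthInstance.maxHeartbeats 400000

universe u

noncomputable section

open TensorProduct Polynomial

namespace Groth.Agent.DiagExt19

open Groth.Agent.Comod

variable {k : Type u} [Field k] {A : Type u} [CommRing A] [HopfAlgebra k A]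
  {B : Type u} [CommRing B] [HopfAlgebra k B]

/-- the contraction is left equivariant -/
theorem comul_contract (Φ : A →ₗ[k] k) (a : A) :
    Coalgebra.comul (R := k) (contract Φ a) = (contract Φ).lTensor A (Coalgebra.comul (R := k) a) := by
  have h1 : ∀ y : (A ⊗[k] A) ⊗[k] A, slice Φ y = (slice Φ).lTensor A (TensorProduct.assoc k A A A y) := by
    intro y
    induction y using TensorProduct.induction_on with
    | zero => simp
    | tmul z c =>
      induction z using TensorProduct.induction_on with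
      | zero => simp
      | tmul x b => simp [TensorProduct.tmul_smul]
      | add x b hx hb => simp only [TensorProduct.add_tmul, map_add, hx, hb]
    | add x b hx hb => simp only [map_add, hx, hb]
  show Coalgebra.comul (R := k) (slice Φ (Coalgebra.comul (R := k) a)) = _
  rw [← slice_rTensor, h1, Coalgebra.coassoc_apply, ← LinearMap.lTensor_comp_apply]
  rfl

/-- A retraction on a Hopf subalgebra containing the image of `B`. -/
structure IsRetr (ψ : B →ₐc[k] A) {D : Subalgebra k A} (r : ↥D →ₐ[k] B) : Prop where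
  map_range : ∀ (b : B) (hb : ψ b ∈ D), r ⟨ψ b, hb⟩ = b
  comul : ∀ (t : ↥D ⊗[k] ↥D) (a : ↥D), HopfSub.ι₂ D t = Coalgebra.comul (R := k) (a : A) →
    Algebra.TensorProduct.map r r t = Coalgebra.comul (R := k) (r a)

/-- A layer over the retraction `r`. -/
structure Layer (ψ : B →ₐc[k] A) {D : Subalgebra k A} (r : ↥D →ₐ[k] B) (x : A) (h : B) where
  /-- the normalised element -/
  x' : A
  /-- the correction -/
  v : B
  eq : x' = x + ψ v
  /-- the ideal -/
  I : Ideal A
  I_eq : I = (RingHom.ker r).map D.val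
  /-- the comultiplication of the quotient -/
  ΔQ : A ⧸ I →ₐ[k] (A ⧸ I) ⊗[k] (A ⧸ I)
  ΔQ_mk : ∀ a : A, ΔQ (Ideal.Quotient.mk I a) =
    Algebra.TensorProduct.map (Ideal.Quotient.mkₐ k I) (Ideal.Quotient.mkₐ k I) (Coalgebra.comul (R := k) a)
  injective : Function.Injective ((Ideal.Quotient.mkₐ k I).comp (ψ : B →ₐ[k] A))
  mk_eq : ∀ a : ↥D, Ideal.Quotient.mk I (a : A) = Ideal.Quotient.mk I (ψ (r a))
  comul_j : ∀ b, ΔQ ((Ideal.Quotient.mkₐ k I).comp (ψ : B →ₐ[k] A) b) =
    Algebra.TensorProduct.map ((Ideal.Quotient.mkₐ k I).comp (ψ : B →ₐ[k] A))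
      ((Ideal.Quotient.mkₐ k I).comp (ψ : B →ₐ[k] A)) (Coalgebra.comul (R := k) b)
  comul_x : ΔQ (Ideal.Quotient.mk I x') = Ideal.Quotient.mk I x' ⊗ₜ[k] (1 : A ⧸ I) +
    (Ideal.Quotient.mkₐ k I).comp (ψ : B →ₐ[k] A) h ⊗ₜ[k] Ideal.Quotient.mk I x'

theorem nonempty_layer (hB : HopfRep.IsDiagonalizable k B) (ψ : B →ₐc[k] A) {D : Subalgebra k A}
    (hD : SGA3.IsHopfSubalgebra k A D) (hBD : (ψ : B →ₐ[k] A).range ≤ D) (r : ↥D →ₐ[k] B) (hr : IsRetr ψ r)
    (x : A) {h : B} (hh : IsGroupLikeElem k h)
    (hx : Coalgebra.comul (R := k) x - x ⊗ₜ[k] (1 : A) - ψ h ⊗ₜ[k] x ∈ (HopfSub.ι₂ D).range) :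
    Nonempty (Layer ψ r x h) := by
  classical
  have hmem : ∀ b, ψ b ∈ D := fun b => hBD ⟨b, rfl⟩
  obtain ⟨φ, hφ⟩ := exists_integral_of_linRed (linRed_of_isDiagonalizable hB)
  obtain ⟨p, hp⟩ := LinearMap.exists_leftInverse_of_injective D.val.toLinearMap
    (LinearMap.ker_eq_bot.2 Subtype.val_injective)
  let R : A →ₗ[k] B := r.toLinearMap ∘ₗ p
  have hR : ∀ a : ↥D, R (a : A) = r a := fun a => congrArg r (LinearMap.congr_fun hp a)
  let Φ : A →ₗ[k] k := φ ∘ₗ R
  obtain ⟨t, ht⟩ := hx
  change HopfSub.ι₂ D t = _ at ht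
  let w := Algebra.TensorProduct.map r r t
  have hRR : ∀ s : ↥D ⊗[k] ↥D, TensorProduct.map R R (HopfSub.ι₂ D s) = Algebra.TensorProduct.map r r s := fun s => by
    induction s using TensorProduct.induction_on with
    | zero => simp
    | tmul a b => simp [HopfSub.ι₂, hR]
    | add a b ha hb => simp only [map_add, ha, hb]
  have hsl : ∀ s : ↥D ⊗[k] ↥D, ∃ u : ↥D, slice Φ (HopfSub.ι₂ D s) = u ∧
      r u = slice φ (Algebra.TensorProduct.map r r s) := fun s => by
    induction s using TensorProduct.induction_on with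
    | zero => exact ⟨0, by simp, by simp⟩
    | tmul a b => exact ⟨φ (r b) • a, by simp [HopfSub.ι₂, Φ, hR], by simp⟩
    | add a b ha hb =>
      obtain ⟨u₁, e₁, f₁⟩ := ha
      obtain ⟨u₂, e₂, f₂⟩ := hb
      exact ⟨u₁ + u₂, by simp [map_add, e₁, e₂], by simp [map_add, f₁, f₂]⟩
  obtain ⟨u, hu, hru⟩ := hsl t
  let v := r u
  have hΦ1 : Φ 1 = 1 := by
    show φ (R ((1 : ↥D) : A)) = 1
    rw [hR, map_one, hφ.map_one]
  -- the cocycle identity
  have hid : HopfSub.ι₂ D t + Coalgebra.comul (R := k) (u : A) =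
      ψ h ⊗ₜ[k] (u : A) + (contract Φ).lTensor A (HopfSub.ι₂ D t) := by
    have hcx : contract Φ x = x + Φ x • ψ h + (u : A) := by
      rw [← hu, ht, contract_apply]
      change slice Φ (Coalgebra.comul (R := k) x) = _
      simp only [map_sub, slice_tmul, hΦ1, one_smul]
      abel
    have hc1 : contract Φ (1 : A) = 1 := by
      rw [contract_apply]
      change slice Φ (Coalgebra.comul (R := k) (1 : A)) = _
      rw [Bialgebra.comul_one, Algebra.TensorProduct.one_def, slice_tmul, hΦ1, one_smul]
    have hH : Coalgebra.comul (R := k) (ψ h) = ψ h ⊗ₜ[k] ψ h := (hh.map ψ).comul_eq_tmul_self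
    have e1 := comul_contract Φ x
    rw [show Coalgebra.comul (R := k) x = HopfSub.ι₂ D t + x ⊗ₜ[k] (1 : A) + ψ h ⊗ₜ[k] x by rw [ht]; abel] at e1
    simp only [map_add, LinearMap.lTensor_tmul, hc1, hcx, map_smul, TensorProduct.tmul_add,
      TensorProduct.tmul_smul] at e1
    rw [show Coalgebra.comul (R := k) x = HopfSub.ι₂ D t + x ⊗ₜ[k] (1 : A) + ψ h ⊗ₜ[k] x by rw [ht]; abel] at e1
    rw [hH] at e1
    linear_combination (norm := abel) e1
  have hcoc : Coalgebra.comul (R := k) v + w = h ⊗ₜ[k] v + v ⊗ₜ[k] (1 : B) := by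
    have e := congrArg (TensorProduct.map R R) hid
    obtain ⟨tu, htu⟩ := comul_mem_range hD u.2
    change HopfSub.ι₂ D tu = _ at htu
    rw [map_add, map_add, ← htu, hRR, hRR, hr.comul tu u htu, TensorProduct.map_tmul, hR,
      show R (ψ h) = h from (hR ⟨ψ h, hmem h⟩).trans (hr.map_range h _)] at e
    have e2 : ∀ s : ↥D ⊗[k] ↥D, TensorProduct.map R R ((contract Φ).lTensor A (HopfSub.ι₂ D s)) =
        slice φ (Algebra.TensorProduct.map r r s) ⊗ₜ[k] (1 : B) := fun s => by
      induction s using TensorProduct.induction_on with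
      | zero => simp
      | add a b ha hb => simp only [map_add, ha, hb, TensorProduct.add_tmul]
      | tmul a b =>
        obtain ⟨tb, htb⟩ := comul_mem_range hD b.2
        change HopfSub.ι₂ D tb = _ at htb
        obtain ⟨ub, hub, hrub⟩ := hsl tb
        rw [hr.comul tb b htb, hφ.slice_comul] at hrub
        have hb' : contract Φ (b : A) = ub := by
          rw [contract_apply, ← hub, htb]
          rfl
        simp [HopfSub.ι₂, hb', hR, hrub, TensorProduct.tmul_smul, TensorProduct.smul_tmul']
    rw [e2, ← hru] at e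
    rw [← e, add_comm]
  -- the quotient
  let I : Ideal A := (RingHom.ker r).map D.val
  let π := Ideal.Quotient.mkₐ k I
  let j : B →ₐ[k] A ⧸ I := π.comp (ψ : B →ₐ[k] A)
  have hmk : ∀ a : ↥D, π (a : A) = j (r a) := fun a => by
    refine Ideal.Quotient.eq.2 (show (a : A) - ψ (r a) ∈ I from ?_)
    have : a - ⟨ψ (r a), hmem _⟩ ∈ RingHom.ker r := by rw [RingHom.mem_ker, map_sub, hr.map_range, sub_self]
    exact Ideal.mem_map_of_mem D.val this
  have hkey : ∀ s : ↥D ⊗[k] ↥D, Algebra.TensorProduct.map π π (HopfSub.ι₂ D s) =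
      Algebra.TensorProduct.map j j (Algebra.TensorProduct.map r r s) := fun s => by
    induction s using TensorProduct.induction_on with
    | zero => simp
    | tmul a b => simp [HopfSub.ι₂, ← hmk, π]
    | add a b ha hb => simp only [map_add, ha, hb]
  have hkill : I ≤ RingHom.ker ((Algebra.TensorProduct.map π π).comp (Bialgebra.comulAlgHom k A)) := by
    refine Ideal.map_le_iff_le_comap.2 fun a ha => ?_
    rw [Ideal.mem_comap, RingHom.mem_ker, AlgHom.comp_apply, Bialgebra.comulAlgHom_apply]
    obtain ⟨s, hs⟩ := comul_mem_range hD a.2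
    change HopfSub.ι₂ D s = _ at hs
    change Algebra.TensorProduct.map π π (Coalgebra.comul (R := k) (a : A)) = 0
    rw [← hs, hkey, hr.comul s a hs, show r a = 0 from ha, map_zero, map_zero]
  let ΔQ := Ideal.Quotient.liftₐ I ((Algebra.TensorProduct.map π π).comp (Bialgebra.comulAlgHom k A)) (fun a ha => hkill ha)
  have hjj : ∀ s : B ⊗[k] B, Algebra.TensorProduct.map π π (TensorProduct.map (ψ : B →ₗ[k] A) (ψ : B →ₗ[k] A) s) =
      Algebra.TensorProduct.map j j s := fun s => by
    induction s using TensorProduct.induction_on with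
    | zero => simp
    | tmul a b => simp [j]
    | add a b ha hb => simp only [map_add, ha, hb]
  refine ⟨⟨x + ψ v, v, rfl, I, rfl, ΔQ, fun _ => rfl, ?_, hmk, fun b => ?_, ?_⟩⟩
  · letI := HopfSub.hopfAlgebra hD
    haveI : Module.FaithfullyFlat ↥D A := HopfSub.faithfullyFlat (HopfSub.incl hD) (fun _ => rfl) Subtype.val_injective
    refine (injective_iff_map_eq_zero _).2 fun b hb => ?_
    have h1 : (⟨ψ b, hmem b⟩ : ↥D) ∈ ((RingHom.ker r).map (algebraMap ↥D A)).comap (algebraMap ↥D A) :=
      Ideal.mem_comap.2 (Ideal.Quotient.eq_zero_iff_mem.1 hb)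
    rw [Ideal.comap_map_eq_self_of_faithfullyFlat, RingHom.mem_ker, hr.map_range] at h1
    exact h1
  · show Algebra.TensorProduct.map π π (Coalgebra.comul (R := k) (ψ b)) = _
    rw [← CoalgHomClass.map_comp_comul_apply ψ b]
    exact hjj _
  · show Algebra.TensorProduct.map π π (Coalgebra.comul (R := k) (x + ψ v)) = _
    rw [show Coalgebra.comul (R := k) (x + ψ v) =
      HopfSub.ι₂ D t + x ⊗ₜ[k] (1 : A) + ψ h ⊗ₜ[k] x + Coalgebra.comul (R := k) (ψ v) by
        rw [map_add, ht]; abel, map_add, map_add, map_add, hkey, ← CoalgHomClass.map_comp_comul_apply ψ v, hjj]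
    have e : Algebra.TensorProduct.map j j w + Algebra.TensorProduct.map j j (Coalgebra.comul (R := k) v) =
        j h ⊗ₜ[k] j v + j v ⊗ₜ[k] 1 := by
      rw [← map_add, add_comm, hcoc, map_add]
      simp
    simp only [Algebra.TensorProduct.map_tmul, map_one, map_add]
    rw [TensorProduct.add_tmul, TensorProduct.tmul_add]
    change _ = _ + j v ⊗ₜ[k] 1 + (j h ⊗ₜ[k] _ + j h ⊗ₜ[k] j v)
    change Algebra.TensorProduct.map j j w + π x ⊗ₜ[k] 1 + j h ⊗ₜ[k] π x + Algebra.TensorProduct.map j j (Coalgebra.comul (R := k) v) = _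
    linear_combination (norm := (simp only [π, Ideal.Quotient.mkₐ_eq_mk]; abel)) e

variable (ψ : B →ₐc[k] A) {D : Subalgebra k A} {r : ↥D →ₐ[k] B} {x : A} {h : B}

/-- Extending a retraction by a root of the relation. -/
theorem Layer.exists_extend (L : Layer ψ r x h) (f : B)
    (hker : ∀ F : B[X], aevalTower ((Ideal.Quotient.mkₐ k L.I).comp (ψ : B →ₐ[k] A)) (Ideal.Quotient.mk L.I L.x') F = 0 →
      F.eval f = 0)
    (hf : Coalgebra.comul (R := k) f = f ⊗ₜ[k] (1 : B) + h ⊗ₜ[k] f) :
    ∃ r' : ↥(D ⊔ Algebra.adjoin k {x}) →ₐ[k] B, IsRetr ψ r' := by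
  let D' := D ⊔ Algebra.adjoin k {x}
  let π := Ideal.Quotient.mkₐ k L.I
  let j := π.comp (ψ : B →ₐ[k] A)
  let e := aevalTower j (π L.x')
  have hle : D' ≤ e.range.comap π := by
    refine sup_le (fun a ha => ⟨C (r ⟨a, ha⟩), ?_⟩) (Algebra.adjoin_le ?_)
    · exact (aevalTower_C _ _ _).trans (L.mk_eq ⟨a, ha⟩).symm
    · rintro a rfl
      refine ⟨X - C L.v, ?_⟩
      show e (X - C L.v) = π a
      rw [map_sub, aevalTower_X, aevalTower_C, L.eq, map_add]
      exact add_sub_cancel_right _ _
  let g : ↥D' →ₐ[k] ↥e.range := (π.comp D'.val).codRestrict e.range fun a => hle a.2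
  let ev : B[X] →ₐ[k] B := aevalTower (AlgHom.id k B) f
  have hev : ∀ F, ev F = F.eval f := fun F => by
    induction F using Polynomial.induction_on' with
    | add p q hp hq => simp only [map_add, eval_add, hp, hq]
    | monomial i b => simp [ev, ← C_mul_X_pow_eq_monomial]
  let rng : ↥e.range →ₐ[k] B := (Ideal.Quotient.liftₐ (RingHom.ker e) ev
    (fun F hF => (hev F).trans (hker F hF))).comp (Ideal.quotientKerEquivRange e).symm.toAlgHom
  have hrng : ∀ F, rng (e.rangeRestrict F) = ev F := fun F => by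
    have : (Ideal.quotientKerEquivRange e).symm (e.rangeRestrict F) = Ideal.Quotient.mk _ F := by
      rw [AlgEquiv.symm_apply_eq]
      rfl
    simp only [rng, AlgHom.comp_apply, AlgEquiv.coe_toAlgHom]
    rw [this]
    rfl
  refine ⟨rng.comp g, fun b hb => ?_, fun t a hta => ?_⟩
  · show rng (g ⟨ψ b, hb⟩) = b
    rw [show g ⟨ψ b, hb⟩ = e.rangeRestrict (C b) from Subtype.ext (show π (ψ b) = e (C b) from (aevalTower_C j (π L.x') b).symm), hrng]
    simp [ev]
  · obtain ⟨F, hF⟩ := hle a.2
    change e F = π (a : A) at hF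
    show Algebra.TensorProduct.map (rng.comp g) (rng.comp g) t = Coalgebra.comul (R := k) (rng (g a))
    rw [show g a = e.rangeRestrict F from Subtype.ext hF.symm, hrng]
    have h1 : ∀ s, Algebra.TensorProduct.map (rng.comp g) (rng.comp g) s =
        Algebra.TensorProduct.map rng rng (Algebra.TensorProduct.map g g s) := fun s => by
      induction s using TensorProduct.induction_on with
      | zero => simp
      | tmul p q => simp
      | add p q hp hq => simp only [map_add, hp, hq]
    have h2 : Algebra.TensorProduct.map g g t = Algebra.TensorProduct.map e.rangeRestrict e.rangeRestrict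
        (dpoly (k := k) h F) := by
      apply HopfSub.map_injective e.range.val e.range.val Subtype.val_injective Subtype.val_injective
      have k1 : ∀ s, Algebra.TensorProduct.map e.range.val e.range.val (Algebra.TensorProduct.map g g s) =
          Algebra.TensorProduct.map π π (HopfSub.ι₂ D' s) := fun s => by
        induction s using TensorProduct.induction_on with
        | zero => simp
        | tmul p q => rfl
        | add p q hp hq => simp only [map_add, hp, hq]
      have k2 : ∀ s, Algebra.TensorProduct.map e.range.val e.range.val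
          (Algebra.TensorProduct.map e.rangeRestrict e.rangeRestrict s) = Algebra.TensorProduct.map e e s := fun s => by
        induction s using TensorProduct.induction_on with
        | zero => simp
        | tmul p q => rfl
        | add p q hp hq => simp only [map_add, hp, hq]
      rw [k1, k2, hta, map_dpoly L.ΔQ j L.comul_j (π L.x') L.comul_x, hF]
      exact (L.ΔQ_mk _).symm
    have h3 : ∀ s, Algebra.TensorProduct.map rng rng (Algebra.TensorProduct.map e.rangeRestrict e.rangeRestrict s) =
        Algebra.TensorProduct.map ev ev s := fun s => by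
      induction s using TensorProduct.induction_on with
      | zero => simp
      | tmul p q => simp only [Algebra.TensorProduct.map_tmul, hrng]
      | add p q hp hq => simp only [map_add, hp, hq]
    rw [h1, h2, h3]
    exact map_dpoly (Bialgebra.comulAlgHom k B) (AlgHom.id k B) (fun b => by simp) f hf F

end Groth.Agent.DiagExt19
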